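import Cfsg.Agent.H33.StrongFusion
import Cfsg.Agent.H33.Frattini
/-!
Local-to-global control of strong fusion, using only the normalizers of the subgroups
containing `Z(S)` (up to conjugation).
-/
set_option autoImplicit false
set_option linter.all false

namespace Cfsg.Agent.QdInv

open Cfsg Cfsg.Agent.H33

variable {G : Type*} [Group G] {p : ℕ}

/-- The conjugates of the subgroups of `S` containing `Z(S)`. -/
def DomZ (S T : Subgroup G) : Prop :=
  ∃ x : G, S ⊓ Subgroup.centralizer (S : Set G) ≤ cj x T ∧ cj x T ≤ S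

theorem strong_local_global_Z [Finite G] [Fact p.Prime] (S : Sylow p G)
    (𝓦 : Set (Subgroup G → Subgroup G)) (h𝓦 : ∀ W ∈ 𝓦, IsConjugacyFunctor p W)
    (hWZ : ∀ W ∈ 𝓦, ∀ H : Subgroup G, IsPGroup p H → H ⊓ Subgroup.centralizer (H : Set G) ≤ W H)
    (𝒦 : Set (Subgroup G))
    (h𝒦 : ∀ W ∈ 𝓦, ∃ K ∈ 𝒦, Subgroup.normalizer ((W S : Subgroup G) : Set G) ≤ K)
    (hloc : ∀ T : Subgroup G, T ≤ (S : Subgroup G) → DomZ (S : Subgroup G) T →
      IsSyl p (nS (S : Subgroup G) T) (Subgroup.normalizer ((T : Subgroup G) : Set G)) →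
      ∃ 𝒩 : Set (Subgroup G), (∀ N ∈ 𝒩, (∃ W ∈ 𝓦, N ≤ Subgroup.normalizer ((T : Subgroup G) : Set G) ⊓
          Subgroup.normalizer ((W (nS (S : Subgroup G) T) : Subgroup G) : Set G)) ∨ ∃ K ∈ 𝒦, N ≤ K) ∧
        ∀ A ≤ nS (S : Subgroup G) T, ∀ g ∈ Subgroup.normalizer ((T : Subgroup G) : Set G),
          cj g A ≤ nS (S : Subgroup G) T → SFc 𝒩 (nS (S : Subgroup G) T) A g) :
    ∀ A, A ≤ (S : Subgroup G) → ∀ g, cj g A ≤ (S : Subgroup G) →
      SFc 𝒦 (S : Subgroup G) A g := by
  have hZn : ∀ T : Subgroup G, T ≤ (S : Subgroup G) →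
      (S : Subgroup G) ⊓ Subgroup.centralizer ((S : Subgroup G) : Set G) ≤ nS (S : Subgroup G) T := by
    intro T hT
    refine le_inf inf_le_left (inf_le_right.trans ?_)
    exact (Subgroup.centralizer_le hT).trans (cent_le_norm' T)
  have hZW : ∀ W ∈ 𝓦, ∀ T : Subgroup G, T ≤ (S : Subgroup G) →
      (S : Subgroup G) ⊓ Subgroup.centralizer ((S : Subgroup G) : Set G) ≤ W (nS (S : Subgroup G) T) := by
    intro W hW T hT
    refine le_trans (le_inf (hZn T hT) ?_) (hWZ W hW _ (isPGroup_nS S.2))
    exact inf_le_right.trans (Subgroup.centralizer_le (inf_le_left : nS (S : Subgroup G) T ≤ S))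
  refine alperin_abstract S ⊥ bot_le _ (fun A' A g hA' _ _ h => h.mono hA')
    (fun A g h _ _ _ h1 h2 => h1.trans h2) (fun A g _ _ h => h.inv) ?_ ?_
  · intro g hg
    have h4 : nS (S : Subgroup G) (S : Subgroup G) = S :=
      le_antisymm inf_le_left (le_inf le_rfl Subgroup.le_normalizer)
    have h3 : IsSyl p (nS (S : Subgroup G) (S : Subgroup G))
        (Subgroup.normalizer ((S : Subgroup G) : Set G)) := by
      rw [isSyl_nS_iff]; exact nS_index_of_eq h4
    obtain ⟨𝒩, h5, h6⟩ := hloc S le_rfl ⟨1, by rw [cj_one]; exact inf_le_left, by rw [cj_one]⟩ h3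
    rw [h4] at h5 h6
    refine (h6 S le_rfl g hg (le_of_eq (mem_norm_iff.1 hg))).mono_fam le_rfl ?_
    intro N hN
    rcases h5 N hN with ⟨W, hW, hle⟩ | h
    · obtain ⟨K, hK, hle2⟩ := h𝒦 W hW
      exact ⟨K, hK, (hle.trans inf_le_right).trans hle2⟩
    · exact h
  · intro A _ hAS IH
    -- the climbing claim
    have claim : ∀ m : ℕ, ∀ T : Subgroup G, T ≤ (S : Subgroup G) → DomZ (S : Subgroup G) T →
        IsSyl p (nS (S : Subgroup G) T) (Subgroup.normalizer ((T : Subgroup G) : Set G)) →
        Nat.card A < Nat.card (nS (S : Subgroup G) T) →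
        Nat.card (S : Subgroup G) - Nat.card (nS (S : Subgroup G) T) = m →
        ∀ B, B ≤ nS (S : Subgroup G) T → Nat.card B = Nat.card A →
        ∀ x ∈ Subgroup.normalizer ((T : Subgroup G) : Set G), cj x B ≤ nS (S : Subgroup G) T →
        SFc 𝒦 (S : Subgroup G) B x := by
      intro m
      induction m using Nat.strong_induction_on with
      | _ m ihm =>
        intro T hTS hTD hTsyl hTn hm B hB hBn x hx hxB
        obtain ⟨𝒩, h𝒩, hc⟩ := hloc T hTS hTD hTsyl
        refine SFc.bind (inf_le_left : nS (S : Subgroup G) T ≤ S) (Nat.card A) ?_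
          (hc B hB x hx hxB) hBn
        intro N hN y hy C hC hyC hCn
        rcases h𝒩 N hN with ⟨W, hW, hle⟩ | ⟨K, hK, hle⟩
        · have hy2 := hle hy
          by_cases hRS : nS (S : Subgroup G) T = S
          · obtain ⟨K, hK, hle2⟩ := h𝒦 W hW
            rw [hRS] at hy2
            exact SFc.single hK (hle2 hy2.2) (hC.trans inf_le_left) (hyC.trans inf_le_left)
          · set R := nS (S : Subgroup G) T with hR
            have hRp : IsPGroup p R := isPGroup_nS S.2
            have hWR : W R ≤ (S : Subgroup G) := (cf_le (h𝓦 W hW) hRp).trans inf_le_left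
            have hZWR := hZW W hW T hTS
            rw [← hR] at hZWR
            obtain ⟨g₁, h1, h3⟩ := domain_fullyNormalized S (W R)
            have hRW : R ≤ nS (S : Subgroup G) (W R) :=
              le_inf inf_le_left (cf_norm_le (h𝓦 W hW) hRp)
            have hgrow : Nat.card R < Nat.card (nS (S : Subgroup G) (W R)) := by
              refine lt_of_lt_of_le (card_lt_card_of_lt
                (lt_inf_normalizer S.2 (lt_of_le_of_ne inf_le_left hRS))) ?_
              exact Subgroup.card_le_of_le (inf_le_inf_left _ (cf_norm (h𝓦 W hW) hRp))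
            have hle2 : cj g₁ (nS (S : Subgroup G) (W R)) ≤ nS (S : Subgroup G) (cj g₁ (W R)) := by
              refine le_inf h1 ?_
              rw [← cj_normalizer]; exact cj_mono inf_le_right
            have hcard2 : Nat.card (nS (S : Subgroup G) (W R)) ≤
                Nat.card (nS (S : Subgroup G) (cj g₁ (W R))) := by
              rw [← card_cj g₁]; exact Subgroup.card_le_of_le hle2
            have hcard3 : Nat.card (nS (S : Subgroup G) (cj g₁ (W R))) ≤
                Nat.card (S : Subgroup G) := Subgroup.card_le_of_le inf_le_left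
            have hΦ := IH (nS (S : Subgroup G) (W R)) inf_le_left (by omega) g₁ h1
            have e1 : SFc 𝒦 (S : Subgroup G) C g₁ :=
              hΦ.mono (hC.trans hRW)
            have e2 : SFc 𝒦 (S : Subgroup G) (cj y C) g₁ :=
              hΦ.mono (hyC.trans hRW)
            have hgS : cj g₁ (W R) ≤ (S : Subgroup G) :=
              (cj_mono (le_inf hWR Subgroup.le_normalizer)).trans h1
            have e3 : SFc 𝒦 (S : Subgroup G) (cj g₁ C) (g₁ * y * g₁⁻¹) := by
              refine ihm _ ?_ (cj g₁ (W R)) hgS ?_ h3 (by omega) rfl (cj g₁ C) ?_ ?_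
                (g₁ * y * g₁⁻¹) ?_ ?_
              · omega
              · refine ⟨g₁⁻¹, ?_, ?_⟩
                · rw [cj_inv_cj]; exact hZWR
                · rw [cj_inv_cj]; exact hWR
              · exact (cj_mono (hC.trans hRW)).trans hle2
              · rw [card_cj]; exact hCn
              · rw [← cj_normalizer]; exact conj_mem_cj hy2.2
              · rw [← cj_mul, show g₁ * y * g₁⁻¹ * g₁ = g₁ * y by group, cj_mul]
                exact (cj_mono (hyC.trans hRW)).trans hle2
            have e4 := e1.trans e3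
            have e5 : SFc 𝒦 (S : Subgroup G) C
                (g₁⁻¹ * (g₁ * y * g₁⁻¹ * g₁)) := by
              refine e4.trans ?_
              rw [show g₁ * y * g₁⁻¹ * g₁ = g₁ * y by group, cj_mul]
              exact e2.inv
            rwa [show g₁⁻¹ * (g₁ * y * g₁⁻¹ * g₁) = y by group] at e5
        · exact SFc.single hK (hle hy) (hC.trans inf_le_left) (hyC.trans inf_le_left)
    obtain ⟨a, h1, h3⟩ := domain_fullyNormalized S A
    have hUS : cj a A ≤ (S : Subgroup G) :=
      (cj_mono (le_inf hAS.le Subgroup.le_normalizer)).trans h1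
    refine ⟨a, hUS, h3, fun y hy => ?_⟩
    have hUle : cj a A ≤ nS (S : Subgroup G) (cj a A) := le_inf hUS Subgroup.le_normalizer
    by_cases hcen : (S : Subgroup G) ⊓ Subgroup.centralizer ((cj a A : Subgroup G) : Set G) ≤ cj a A
    · refine claim _ (cj a A) hUS ⟨1, ?_, ?_⟩ h3 ?_ rfl (cj a A) hUle (card_cj a A) y hy ?_
      · rw [cj_one]
        exact (inf_le_inf_left _ (Subgroup.centralizer_le hUS)).trans hcen
      · rw [cj_one]; exact hUS
      · have : cj a A < (S : Subgroup G) := by
          refine lt_of_le_of_ne hUS ?_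
          intro he
          have h4 := card_cj a A
          rw [he] at h4
          have := card_lt_card_of_lt hAS
          omega
        have := card_lt_card_of_lt (lt_inf_normalizer S.2 this)
        rwa [card_cj] at this
      · rw [mem_norm_iff.1 hy]; exact hUle
    · -- not centric: Frattini
      set U := cj a A with hU
      set M := U ⊔ Subgroup.centralizer (U : Set G) with hM
      have hMN : M ≤ Subgroup.normalizer (U : Set G) := sup_le Subgroup.le_normalizer (cent_le_norm' U)
      have hNM : Subgroup.normalizer (U : Set G) ≤ Subgroup.normalizer (M : Set G) := by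
        intro n hn
        have hnU := mem_norm_iff.1 hn
        rw [mem_norm_iff, hM, cj_sup, hnU]
        congr 1
        rw [cj_centralizer, hnU]
      have hD := h3.inf_normal hMN hNM
      obtain ⟨n, hn, hny⟩ := hD.frattini (hNM hy)
      obtain ⟨u, hu, c, hc, rfl⟩ := (mem_sup_left_norm (cent_le_norm' U)).1 hn
      have huD : u ∈ nS (S : Subgroup G) U ⊓ M := ⟨hUle hu, (le_sup_left : U ≤ M) hu⟩
      have hcy : c * y ∈ Subgroup.normalizer ((nS (S : Subgroup G) U ⊓ M : Subgroup G) : Set G) := by
        have h6 := mul_mem (inv_mem (Subgroup.le_normalizer huD)) hny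
        have h7 : u⁻¹ * (u * c * y) = c * y := by group
        rwa [h7] at h6
      have hUD : U ≤ nS (S : Subgroup G) U ⊓ M := le_inf hUle le_sup_left
      have hlt : U < nS (S : Subgroup G) U ⊓ M := by
        refine lt_of_le_of_ne hUD ?_
        intro he
        apply hcen
        calc (S : Subgroup G) ⊓ Subgroup.centralizer (U : Set G) ≤ nS (S : Subgroup G) U ⊓ M :=
              le_inf (le_inf inf_le_left (inf_le_right.trans (cent_le_norm' U)))
                (inf_le_right.trans le_sup_right)
          _ = U := he.symm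
      have hcard := card_lt_card_of_lt hlt
      rw [hU, card_cj, ← hU] at hcard
      have h8 := IH (nS (S : Subgroup G) U ⊓ M) (inf_le_left.trans inf_le_left) hcard (c * y) (by
        rw [mem_norm_iff.1 hcy]; exact inf_le_left.trans inf_le_left)
      refine (h8.mono hUD).congr ?_
      intro b hb
      have h9 : y * b * y⁻¹ ∈ U := by
        have := conj_mem_cj (g := y) hb
        rwa [mem_norm_iff.1 hy] at this
      have h10 := Subgroup.mem_centralizer_iff.1 hc _ h9
      calc y * b * y⁻¹ = (y * b * y⁻¹) * c * c⁻¹ := by group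
        _ = c * (y * b * y⁻¹) * c⁻¹ := by rw [h10]
        _ = c * y * b * (c * y)⁻¹ := by group

end Cfsg.Agent.QdInv
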