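import Cfsg.Agent.QdInv.Main
import Cfsg.Agent.QdInv.LocalGlobal
import Cfsg.Agent.S0664
import Cfsg.Agent.S1994
/-!
Control of fusion by `Z(J)` in groups without `Qd(p)` sections.
-/
set_option autoImplicit false

namespace Cfsg.Agent.QdInv

open Cfsg Cfsg.Agent.H46 Cfsg.Agent.H33

universe u v w

theorem induced_zja {X : Type u} [Group X] (P : Subgroup X) :
    inducedFunctor @ZJ.zja P = centerThompsonAOf P := ZJ.rel_zja P

/-- The singleton family of the functor `Z(J)`. -/
def famZ : Set (∀ (Q : Type u) [Group Q], Subgroup Q) := {@ZJ.zja}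

theorem famZ_charP {p : ℕ} [Fact p.Prime] : ∀ W ∈ famZ.{u}, IsCharPFunctor.{u} p W := by
  rintro W hW
  rw [show @W = @ZJ.zja from hW]
  exact charP_zja

theorem ind_famZ {X : Type u} [Group X] : ind X famZ.{u} = {inducedFunctor (G := X) @ZJ.zja} :=
  Set.image_singleton

/-- In a group with no `Qd(p)` section, `Z(J)` controls strong fusion. -/
theorem family_zja_of_free {p : ℕ} [Fact p.Prime] (hp2 : p ≠ 2) {G : Type u} [Group G] [Finite G]
    (hfree : ¬ Involves ↥(qd p) G) : FamilyControlsStrongFusionIn p (ind G famZ.{u}) ⊤ := by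
  refine S1994.result famZ.{u} famZ_charP ?_
  intro K R hR hc
  change FamilyControlsStrongFusionIn p (ind (↥K ⧸ R.subgroupOf K) famZ.{u}) ⊤
  rw [ind_famZ, ← controls_iff_family]
  obtain ⟨T⟩ : Nonempty (Sylow p (↥K ⧸ R.subgroupOf K)) := inferInstance
  have hn := S0664.result hp2 (free_section hfree K R) hc T
  refine ⟨(T : Subgroup _), le_top, T.2, by
    rw [Subgroup.relIndex_top_right]; exact T.not_dvd_index, ?_⟩
  intro A h _ hA hA'
  refine ⟨h, ?_, fun a _ => rfl⟩
  rw [induced_zja, Subgroup.normalizer_eq_top_iff.2 hn]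
  exact ⟨Subgroup.mem_top _, Subgroup.mem_top _⟩

/-- The image of a section of a subgroup `N`. -/
theorem exists_section_of_involves {D : Type v} [Group D] {G : Type u} [Group G] {N : Subgroup G}
    (h : Involves D ↥N) : ∃ (H K : Subgroup G) (_ : (K.subgroupOf H).Normal), H ≤ N ∧
      Nonempty ((H ⧸ K.subgroupOf H) ≃* D) := by
  obtain ⟨L, f, hf⟩ := involves_iff.1 h
  let e : ↥L ≃* ↥(L.map N.subtype) := L.equivMapOfInjective N.subtype N.subtype_injective
  let f' : ↥(L.map N.subtype) →* D := f.comp e.symm.toMonoidHom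
  have hf' : Function.Surjective f' := hf.comp e.symm.surjective
  have hk : (f'.ker.map (L.map N.subtype).subtype).subgroupOf (L.map N.subtype) = f'.ker := by
    ext x
    rw [Subgroup.mem_subgroupOf]
    constructor
    · rintro ⟨y, hy, hyx⟩
      have : y = x := Subtype.ext hyx
      rwa [← this]
    · intro hx
      exact ⟨x, hx, rfl⟩
  refine ⟨L.map N.subtype, f'.ker.map (L.map N.subtype).subtype, ?_, Subgroup.map_subtype_le _, ?_⟩
  · rw [hk]; infer_instance
  · have hn : ((f'.ker.map (L.map N.subtype).subtype).subgroupOf (L.map N.subtype)).Normal := by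
      rw [hk]; infer_instance
    exact ⟨(QuotientGroup.quotientMulEquivOfEq hk).trans
      (QuotientGroup.quotientKerEquivOfSurjective f' hf')⟩

/-- Frattini: a section with a nontrivial normal `p`-subgroup lives in a `p`-local subgroup. -/
theorem exists_local_involves {p : ℕ} [Fact p.Prime] {D : Type v} [Group D] {G : Type u} [Group G] [Finite G]
    (h : Involves D G) (Q : Subgroup D) [Q.Normal] (hQ : IsPGroup p Q) (hQ1 : Q ≠ ⊥) :
    ∃ P : Subgroup G, IsPGroup p P ∧ P ≠ ⊥ ∧ Involves D ↥(Subgroup.normalizer (P : Set G)) := by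
  obtain ⟨K, f, hf⟩ := involves_iff.1 h
  obtain ⟨P₀, hP₀, hmap, hnorm⟩ := exists_lift_normal_pSubgroup f hf Q hQ
  refine ⟨P₀.map K.subtype, hP₀.map _, ?_, ?_⟩
  · intro h0
    rw [Subgroup.map_eq_bot_iff_of_injective _ K.subtype_injective] at h0
    rw [h0, Subgroup.map_bot] at hmap
    exact hQ1 hmap.symm
  · have h1 : Involves D ↥(Subgroup.normalizer (P₀ : Set ↥K)) := by
      refine involves_of_surjective (f.comp (Subgroup.normalizer (P₀ : Set ↥K)).subtype) ?_
      intro d
      have hd : d ∈ (Subgroup.normalizer (P₀ : Set ↥K)).map f := by rw [hnorm]; trivial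
      obtain ⟨x, hx, rfl⟩ := hd
      exact ⟨⟨x, hx⟩, rfl⟩
    have hle : (Subgroup.normalizer (P₀ : Set ↥K)).map K.subtype ≤
        Subgroup.normalizer ((P₀.map K.subtype : Subgroup G) : Set G) := Subgroup.le_normalizer_map _
    let φ : ↥(Subgroup.normalizer (P₀ : Set ↥K)) →* ↥(Subgroup.normalizer ((P₀.map K.subtype : Subgroup G) : Set G)) :=
      (K.subtype.comp (Subgroup.normalizer (P₀ : Set ↥K)).subtype).codRestrict _ (fun x => hle ⟨x, x.2, rfl⟩)
    refine involves_of_injective h1 φ ?_
    intro x y hxy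
    have h2 : ((x : ↥K) : G) = ((y : ↥K) : G) :=
      congrArg (fun z : ↥(Subgroup.normalizer ((P₀.map K.subtype : Subgroup G) : Set G)) => (z : G)) hxy
    exact Subtype.ext (Subtype.ext h2)

theorem qd_normal_ne_bot {p : ℕ} [Fact p.Prime] : (qdProj (F := ZMod p)).ker ≠ ⊥ := by
  intro h
  have h1 : qdElt (1 : Matrix.SpecialLinearGroup (Fin 2) (ZMod p)) ![1, 0] ∈ (qdProj (F := ZMod p)).ker :=
    mem_ker_qdProj.2 rfl
  rw [h, Subgroup.mem_bot, ← qdElt_one] at h1
  exact one_ne_zero (congrFun (qdElt_injective h1).2 0)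

theorem involves_sl_qd {p : ℕ} [Fact p.Prime] :
    Involves (Matrix.SpecialLinearGroup (Fin 2) (ZMod p)) ↥(qd p) :=
  involves_of_surjective (qdProj (F := ZMod p)) qdProj_surjective

/-- `Qd(p)` is involved in `G` only if `Qd(p)`, hence `SL₂(p)`, is involved in a `p`-local subgroup. -/
theorem exists_local_of_involves_qd {p : ℕ} [Fact p.Prime] {G : Type u} [Group G] [Finite G]
    (h : Involves ↥(qd p) G) :
    ∃ P : Subgroup G, IsPGroup p P ∧ P ≠ ⊥ ∧ Involves ↥(qd p) ↥(Subgroup.normalizer (P : Set G)) :=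
  exists_local_involves (D := ↥(qdOver (ZMod p))) h (qdProj (F := ZMod p)).ker qdKer_isPGroup qd_normal_ne_bot

theorem center_le_zja (Q : Type u) [Group Q] [Finite Q] : Subgroup.center Q ≤ ZJ.zja Q := by
  have h1 : Subgroup.center Q ≤ thompsonSubgroupA Q := by
    obtain ⟨A, hA, hmax⟩ := Set.Finite.exists_maximalFor (fun A : Subgroup Q => Nat.card A)
      {A : Subgroup Q | IsMulCommutative A} (Set.toFinite _) ⟨⊥, by
        show IsMulCommutative (⊥ : Subgroup Q); infer_instance⟩
    have hA2 : A ∈ maxAbelianSubgroups Q := by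
      refine ⟨hA, fun B hB => ?_⟩
      by_contra hlt
      push Not at hlt
      exact absurd (hmax hB hlt.le) (not_le.2 hlt)
    have h2 : A ⊔ Subgroup.center Q = A := by
      have hle : A ≤ A ⊔ Subgroup.center Q := le_sup_left
      symm
      apply Subgroup.eq_of_le_of_card_ge hle
      apply hA2.2
      refine (H11.comm_sup hA ?_ ?_)
      · infer_instance
      · intro a _ z hz
        exact Subgroup.mem_center_iff.1 hz a
    exact (h2 ▸ (le_sup_right : Subgroup.center Q ≤ A ⊔ Subgroup.center Q)).trans (le_sSup hA2)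
  exact le_inf h1 (Subgroup.center_le_centralizer _)

theorem center_le_centerThompsonAOf {G : Type u} [Group G] [Finite G] (H : Subgroup G) :
    H ⊓ Subgroup.centralizer (H : Set G) ≤ centerThompsonAOf H := by
  rintro x ⟨hx, hxc⟩
  rw [← induced_zja]
  refine ⟨⟨x, hx⟩, center_le_zja _ ?_, rfl⟩
  rw [Subgroup.mem_center_iff]
  intro y
  exact Subtype.ext (Subgroup.mem_centralizer_iff.1 hxc y y.2)

end Cfsg.Agent.QdInv
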