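import Cfsg.Agent.H46.Qd3
import Cfsg.Agent.H46.Involves
import Cfsg.Prelude.Def_ConjugacyFunctors
/-!
`Qd(p)` itself: it is not `p`-stable in the normalizer form, and no nontrivial characteristic subgroup
of a Sylow `p`-subgroup (nor any family of such subgroups) controls strong fusion.
-/
set_option autoImplicit false

namespace Cfsg.Agent.QdInv

open Cfsg Matrix Cfsg.Agent.H46

universe u

local notation "SL2" => Matrix.SpecialLinearGroup (Fin 2)

/-- Transport of a statement on characteristic subgroups along an isomorphism. -/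
theorem normalizer_transport' {G G' : Type*} [Group G] [Group G'] (c : G ≃* G') (S₀ : Subgroup G)
    (h : ∀ T₀ : Subgroup ↥S₀, T₀ ≠ ⊥ → T₀.Characteristic →
      Subgroup.normalizer ((T₀.map S₀.subtype : Subgroup G) : Set G) = Subgroup.normalizer (S₀ : Set G))
    (S : Subgroup G') (hS : S = S₀.map c.toMonoidHom) (T : Subgroup ↥S) (hT : T ≠ ⊥)
    (hTc : T.Characteristic) :
    Subgroup.normalizer ((T.map S.subtype : Subgroup G') : Set G') = Subgroup.normalizer (S : Set G') := by
  subst hS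
  let e : ↥S₀ ≃* ↥(S₀.map c.toMonoidHom) := S₀.equivMapOfInjective c.toMonoidHom c.injective
  have h1 := h (T.map e.symm.toMonoidHom) ?_ ?_
  · have h2 : T.map (S₀.map c.toMonoidHom).subtype =
        ((T.map e.symm.toMonoidHom).map S₀.subtype).map c.toMonoidHom := by
      rw [Subgroup.map_map, Subgroup.map_map]
      congr 1
      ext x
      have := congrArg Subtype.val (e.apply_symm_apply x)
      exact this.symm
    have h3 : ∀ K : Subgroup G, Subgroup.normalizer ((K.map c.toMonoidHom : Subgroup G') : Set G') =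
        (Subgroup.normalizer (K : Set G)).map c.toMonoidHom := fun K =>
      (Subgroup.map_equiv_normalizer_eq K c).symm
    rw [h2, h3, h1, h3]
  · intro h0
    apply hT
    rw [Subgroup.map_eq_bot_iff] at h0
    rw [eq_bot_iff]
    intro x hx
    have := h0 hx
    have h5 : e.symm x = 1 := MonoidHom.mem_ker.1 this
    exact e.symm.injective (by rw [h5, map_one])
  · rw [Subgroup.characteristic_iff_map_eq]
    intro φ
    have h4 := Subgroup.characteristic_iff_map_eq.1 hTc ((e.symm.trans φ).trans e)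
    conv_rhs => rw [← h4]
    rw [Subgroup.map_map, Subgroup.map_map]
    congr 1
    ext x : 1
    exact (e.symm_apply_apply (φ (e.symm x))).symm

/-- A Sylow `p`-subgroup of a copy of `Qd(p)` is the image of the standard one under some isomorphism. -/
theorem exists_equiv_sylow {p : ℕ} [Fact p.Prime] {X : Type*} [Group X] (e : ↥(qdOver (ZMod p)) ≃* X)
    (T : Sylow p X) : ∃ f : ↥(qdOver (ZMod p)) ≃* X, (T : Subgroup X) = (uniS (ZMod p)).map f.toMonoidHom := by
  let T' : Sylow p ↥(qdOver (ZMod p)) := T.comapOfInjective e.toMonoidHom e.injective (by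
    rw [MonoidHom.range_eq_top.2 e.surjective]; exact le_top)
  have hT' : (T' : Subgroup ↥(qdOver (ZMod p))) = (T : Subgroup X).comap e.toMonoidHom := rfl
  obtain ⟨g, hg⟩ := sylow_qd_eq (F := ZMod p) T'
  refine ⟨(MulAut.conj g).trans e, ?_⟩
  have h1 : ((T : Subgroup X).comap e.toMonoidHom).map e.toMonoidHom = T :=
    Subgroup.map_comap_eq_self_of_surjective e.surjective _
  rw [← h1, ← hT', hg, Subgroup.map_map]
  rfl

/-- the data that obstruct control of fusion in `Qd(p)` -/
theorem exists_obstruction {p : ℕ} [Fact p.Prime] {X : Type*} [Group X] [Finite X]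
    (e : ↥(qdOver (ZMod p)) ≃* X) (T : Sylow p X) :
    ∃ (Z : Subgroup X) (z w : X), z ∈ Z ∧ w ∉ Z ∧ (∃ g : X, g * z * g⁻¹ = w) ∧
      (∀ n ∈ Subgroup.normalizer ((T : Subgroup X) : Set X), ∀ y ∈ Z, n * y * n⁻¹ ∈ Z) ∧
      (∀ T' : Sylow p X, z ∈ T' ∧ w ∈ T') ∧
      ∀ T₀ : Subgroup ↥(T : Subgroup X), T₀ ≠ ⊥ → T₀.Characteristic →
        Subgroup.normalizer ((T₀.map (T : Subgroup X).subtype : Subgroup X) : Set X) =
          Subgroup.normalizer ((T : Subgroup X) : Set X) := by
  obtain ⟨f, hf⟩ := exists_equiv_sylow e T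
  let V : Subgroup X := ((qdProj (F := ZMod p)).ker).map f.toMonoidHom
  have hVn : V.Normal := Subgroup.Normal.map inferInstance _ f.surjective
  have hVp : IsPGroup p V := (qdKer_isPGroup (F := ZMod p)).map _
  have hVle : ∀ T' : Sylow p X, V ≤ T' := fun T' => hVp.le_sylow_of_normal T'
  have hzV : f (qdElt 1 ![1, 0]) ∈ V := ⟨_, mem_ker_qdProj.2 rfl, rfl⟩
  have hwV : f (qdElt 1 ![0, 1]) ∈ V := ⟨_, mem_ker_qdProj.2 rfl, rfl⟩
  have hzc : ∀ s ∈ uniS (ZMod p), s * qdElt 1 ![1, 0] = qdElt 1 ![1, 0] * s := by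
    intro s hs
    obtain ⟨A, v, rfl⟩ := exists_qdElt s
    have hA := mem_uniS_iff.1 hs
    rw [qdElt_mul, qdElt_mul, hA, mul_one, one_mul, Matrix.SpecialLinearGroup.coe_one, one_mulVec, add_comm]
  refine ⟨(T : Subgroup X) ⊓ Subgroup.centralizer ((T : Subgroup X) : Set X), f (qdElt 1 ![1, 0]),
    f (qdElt 1 ![0, 1]), ?_, ?_, ?_, ?_, fun T' => ⟨hVle T' hzV, hVle T' hwV⟩, ?_⟩
  · refine ⟨hVle T hzV, ?_⟩
    apply Subgroup.mem_centralizer_iff.2
    intro t ht
    have ht' : t ∈ (T : Subgroup X) := ht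
    rw [hf] at ht'
    obtain ⟨s, hs, rfl⟩ := ht'
    change f s * f _ = f _ * f s
    rw [← map_mul, hzc s hs, map_mul]
  · rintro ⟨-, h⟩
    replace h := Subgroup.mem_centralizer_iff.1 h
    have h1 : f (uniE 1 0 0) ∈ (T : Subgroup X) := by
      rw [hf]; exact ⟨_, uniE_mem _ _ _, rfl⟩
    have h2 := h _ h1
    rw [← map_mul, ← map_mul] at h2
    have h3 := f.injective h2
    unfold uniE at h3
    rw [qdElt_mul, qdElt_mul] at h3
    have h4 := congrFun (qdElt_injective h3).2 0
    simp [sl2U_coe] at h4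
  · obtain ⟨g, hg⟩ := exists_sl2_mulVec' (F := ZMod p) ![1, 0] ![0, 1]
      (fun h => one_ne_zero (congrFun h 0)) (fun h => one_ne_zero (congrFun h 1))
    refine ⟨f (qdElt g 0), ?_⟩
    rw [← map_inv, ← map_mul, ← map_mul, qdElt_conj, hg]
  · intro n hn y hy
    have hn' := Subgroup.mem_normalizer_iff.1 hn
    refine ⟨(hn' y).1 hy.1, ?_⟩
    apply Subgroup.mem_centralizer_iff.2
    intro t ht
    have h1 : n⁻¹ * t * n ∈ (T : Subgroup X) := by
      have e1 : n * (n⁻¹ * t * n) * n⁻¹ = t := by group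
      rw [hn', e1]
      exact ht
    have h2 := (Subgroup.mem_centralizer_iff.1 hy.2) _ h1
    calc t * (n * y * n⁻¹) = n * ((n⁻¹ * t * n) * y) * n⁻¹ := by group
      _ = n * y * n⁻¹ * t := by rw [h2]; group
  · intro T₀ h0 hc
    exact normalizer_transport' f (uniS (ZMod p)) (fun T₀ h1 h2 => normalizer_char_uniS T₀ h1 h2) _ hf T₀ h0 hc

/-- In a copy of `Qd(p)`, no nontrivial characteristic subgroup of a Sylow `p`-subgroup controls strong fusion. -/
theorem not_controls {p : ℕ} [Fact p.Prime] {X : Type*} [Group X] [Finite X]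
    (e : ↥(qdOver (ZMod p)) ≃* X) (T : Sylow p X) (T₀ : Subgroup ↥(T : Subgroup X)) (h0 : T₀ ≠ ⊥)
    (hc : T₀.Characteristic) : ¬ ControlsStrongFusion p (T₀.map (T : Subgroup X).subtype) := by
  rintro ⟨T', hT', h⟩
  obtain ⟨Z, z, w, hz, hw, ⟨g, hg⟩, hZ, hV, hN⟩ := exists_obstruction e T
  obtain ⟨-, h1⟩ := h {z} (by rw [Set.singleton_subset_iff]; exact (hV T').1)
  obtain ⟨x, hx, hx1⟩ := h1 g (by
    rw [Set.image_singleton, Set.singleton_subset_iff, hg]; exact (hV T').2)
  rw [hN T₀ h0 hc] at hx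
  apply hw
  rw [← hg, hx1 z rfl]
  exact hZ x hx z hz

/-- The same for families. -/
theorem not_family_controls {p : ℕ} [Fact p.Prime] {X : Type u} [Group X] [Finite X]
    (e : ↥(qdOver (ZMod p)) ≃* X) (𝓦 : Set (Subgroup X → Subgroup X))
    (h𝓦 : ∀ W ∈ 𝓦, ∀ T : Sylow p X, ∃ T₀ : Subgroup ↥(T : Subgroup X), T₀ ≠ ⊥ ∧ T₀.Characteristic ∧
      W T = T₀.map (T : Subgroup X).subtype) : ¬ FamilyControlsStrongFusionIn p 𝓦 ⊤ := by
  rintro ⟨T, -, hTp, hTi, h⟩
  let T₁ : Sylow p X := hTp.toSylow (by rwa [Subgroup.relIndex_top_right] at hTi)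
  have hT₁ : (T₁ : Subgroup X) = T := rfl
  obtain ⟨Z, z, w, hz, hw, ⟨g, hg⟩, hZ, hV, hN⟩ := exists_obstruction e T₁
  obtain ⟨n, c, hc0, hstep, -, hlast⟩ := h {z} g trivial (by
    rw [Set.singleton_subset_iff]; exact (hV T₁).1) (by
    rw [Set.image_singleton, Set.singleton_subset_iff, hg]; exact (hV T₁).2)
  have key : ∀ i : Fin (n + 1), c i * z * (c i)⁻¹ ∈ Z := by
    intro i
    induction i using Fin.induction with
    | zero => rw [hc0]; simpa using hz
    | succ i ih =>
      obtain ⟨W, hW, hWs⟩ := hstep i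
      obtain ⟨T₀, h0, hch, hWT⟩ := h𝓦 W hW T₁
      have h2 := hWs.2
      have h3 : W T = T₀.map (T₁ : Subgroup X).subtype := hWT
      rw [SetLike.mem_coe, h3, hN T₀ h0 hch] at h2
      have h4 := hZ _ h2 _ ih
      have h5 : c i.succ * (c i.castSucc)⁻¹ * (c i.castSucc * z * (c i.castSucc)⁻¹) *
          (c i.succ * (c i.castSucc)⁻¹)⁻¹ = c i.succ * z * (c i.succ)⁻¹ := by group
      rwa [h5] at h4
  apply hw
  rw [← hg, ← hlast z rfl]
  exact key _

/-- `Qd(p)` is not `p`-stable in the normalizer form. -/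
theorem not_stable {p : ℕ} [Fact p.Prime] {X : Type*} [Group X] [Finite X]
    (e : ↥(qdOver (ZMod p)) ≃* X) : ¬ IsNormalizerPStable p X := by
  intro hst
  let V : Subgroup X := ((qdProj (F := ZMod p)).ker).map e.toMonoidHom
  have hVn : V.Normal := Subgroup.Normal.map inferInstance _ e.surjective
  have hVp : IsPGroup p V := (qdKer_isPGroup (F := ZMod p)).map _
  have hNt : Subgroup.normalizer (V : Set X) = ⊤ := Subgroup.normalizer_eq_top_iff.2 hVn
  have hmem : ∀ x, x ∈ Subgroup.normalizer (V : Set X) := fun x => by rw [hNt]; trivial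
  -- the projection onto SL₂
  let π : X →* SL2 (ZMod p) := (qdProj (F := ZMod p)).comp e.symm.toMonoidHom
  have hπ : Function.Surjective π := qdProj_surjective.comp e.symm.surjective
  have hker : ∀ x, x ∈ V ↔ π x = 1 := by
    intro x
    constructor
    · rintro ⟨y, hy, rfl⟩
      change qdProj (e.symm (e y)) = 1
      rw [e.symm_apply_apply]
      exact hy
    · intro h
      exact ⟨e.symm x, h, e.apply_symm_apply x⟩
  have hcomm : ∀ x ∈ V, ∀ y ∈ V, x * y = y * x := by
    rintro _ ⟨x, hx, rfl⟩ _ ⟨y, hy, rfl⟩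
    obtain ⟨A, v, rfl⟩ := exists_qdElt x
    obtain ⟨B, w, rfl⟩ := exists_qdElt y
    have hA := mem_ker_qdProj.1 hx
    have hB := mem_ker_qdProj.1 hy
    subst hA
    subst hB
    change e _ * e _ = e _ * e _
    rw [← map_mul, ← map_mul, qdElt_mul, qdElt_mul]
    simp [add_comm]
  -- centralizer of `V`
  have hCV : ∀ x, x ∈ Subgroup.centralizer (V : Set X) ↔ π x = 1 := by
    intro x
    constructor
    · intro h
      obtain ⟨x, rfl⟩ := e.surjective x
      obtain ⟨A, v, rfl⟩ := exists_qdElt x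
      have h1 : π (e (qdElt A v)) = A := by
        change qdProj (e.symm (e _)) = A
        rw [e.symm_apply_apply, qdProj_elt]
      rw [h1]
      apply sl2_eq_one_of_fix
      intro w
      have h2 := Subgroup.mem_centralizer_iff.1 h (e (qdElt 1 w)) ⟨_, mem_ker_qdProj.2 rfl, rfl⟩
      rw [← map_mul, ← map_mul] at h2
      have h3 := e.injective h2
      rw [qdElt_mul, qdElt_mul] at h3
      have h4 := (qdElt_injective h3).2
      rw [Matrix.SpecialLinearGroup.coe_one, one_mulVec, add_comm] at h4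
      exact (add_right_cancel h4).symm
    · intro h
      rw [Subgroup.mem_centralizer_iff]
      intro y hy
      exact hcomm _ hy _ ((hker x).2 h)
  -- the transvection
  set g : X := e (qdElt (sl2U 1) 0) with hg
  have hgπ : π g = sl2U 1 := by
    change qdProj (e.symm (e _)) = _
    rw [e.symm_apply_apply, qdProj_elt]
  -- elements of `⁅V, ⟨g⟩⁆` are of the form `e (qdElt 1 ![c, 0])`
  let Z : Subgroup X := V ⊓ Subgroup.centralizer ({g} : Set X)
  have h1 : ⁅V, Subgroup.zpowers g⁆ ≤ Z := by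
    have hzn : Z.Normal → False → False := fun _ h => h
    rw [Subgroup.commutator_le]
    have hx : ∀ x ∈ V, g * x * g⁻¹ * x⁻¹ ∈ Z := by
      rintro _ ⟨x, hx, rfl⟩
      obtain ⟨A, v, rfl⟩ := exists_qdElt x
      have hA := mem_ker_qdProj.1 hx
      subst hA
      have e1 : g * e (qdElt 1 v) * g⁻¹ * (e (qdElt 1 v))⁻¹ = e (qdElt 1 ![v 1, 0]) := by
        rw [hg, ← map_inv, ← map_mul, ← map_mul, qdElt_conj, ← map_inv, ← map_mul, qdElt_inv, qdElt_mul]
        congr 2
        · simp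
        · ext i
          fin_cases i <;> simp [sl2U_coe, dotProduct, Fin.sum_univ_two]
      change g * e (qdElt 1 v) * g⁻¹ * (e (qdElt 1 v))⁻¹ ∈ Z
      rw [e1]
      refine ⟨⟨_, mem_ker_qdProj.2 rfl, rfl⟩, ?_⟩
      apply Subgroup.mem_centralizer_singleton_iff.2
      rw [hg, ← map_mul, ← map_mul, qdElt_mul, qdElt_mul]
      congr 2
      · simp
      · ext i
        fin_cases i <;> simp [sl2U_coe]
    -- `g` normalizes `V` and acts trivially modulo `Z`
    intro x hxV y hy
    obtain ⟨k, rfl⟩ := hy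
    change x * g ^ k * x⁻¹ * (g ^ k)⁻¹ ∈ Z
    have hcong : ∀ x ∈ V, g ^ k * x * (g ^ k)⁻¹ * x⁻¹ ∈ Z := by
      let Q : Subgroup X :=
        { carrier := {h | ∀ x ∈ V, h * x * h⁻¹ * x⁻¹ ∈ Z ∧ ∀ z ∈ Z, h * z * h⁻¹ = z}
          one_mem' := by
            intro x hx
            simp [Subgroup.one_mem]
          mul_mem' := by
            intro h h' hh hh' x hx
            have h3 : h' * x * h'⁻¹ ∈ V := hVn.conj_mem x hx h'
            refine ⟨?_, ?_⟩
            · have h4 := Z.mul_mem (hh _ h3).1 (hh' _ hx).1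
              have h5 : h * (h' * x * h'⁻¹) * h⁻¹ * (h' * x * h'⁻¹)⁻¹ * (h' * x * h'⁻¹ * x⁻¹) =
                  h * h' * x * (h * h')⁻¹ * x⁻¹ := by group
              rwa [h5] at h4
            · intro z hz
              have h4 := (hh' x hx).2 z hz
              have h5 := (hh x hx).2 z hz
              calc h * h' * z * (h * h')⁻¹ = h * (h' * z * h'⁻¹) * h⁻¹ := by group
                _ = z := by rw [h4, h5]
          inv_mem' := by
            intro h hh x hx
            have h3 : h⁻¹ * x * h ∈ V := by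
              have := hVn.conj_mem x hx h⁻¹
              simpa using this
            have h6 := (hh _ h3).1
            have h7 : h * (h⁻¹ * x * h) * h⁻¹ * (h⁻¹ * x * h)⁻¹ = x * (h⁻¹ * x * h)⁻¹ := by group
            rw [h7] at h6
            have h8 := Z.inv_mem h6
            have h9 : (x * (h⁻¹ * x * h)⁻¹)⁻¹ = h⁻¹ * x * h⁻¹⁻¹ * x⁻¹ := by group
            rw [h9] at h8
            refine ⟨h8, ?_⟩
            intro z hz
            have h4 := (hh x hx).2 z hz
            calc h⁻¹ * z * h⁻¹⁻¹ = h⁻¹ * (h * z * h⁻¹) * h⁻¹⁻¹ := by rw [h4]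
              _ = z := by group }
      have hgQ : g ∈ Q := by
        intro x hxV
        refine ⟨hx x hxV, ?_⟩
        rintro z ⟨-, hz⟩
        replace hz := Subgroup.mem_centralizer_singleton_iff.1 hz
        rw [← hz, mul_inv_cancel_right]
      intro x hxV
      exact (Q.zpow_mem hgQ k x hxV).1
    have h2 := hcong x⁻¹ (inv_mem hxV)
    have hxk : g ^ k * x⁻¹ * (g ^ k)⁻¹ ∈ V := hVn.conj_mem _ (inv_mem hxV) _
    have h3 : x * g ^ k * x⁻¹ * (g ^ k)⁻¹ = x * (g ^ k * x⁻¹ * (g ^ k)⁻¹) := by group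
    rw [h3, hcomm _ hxV _ hxk]
    simpa using h2
  have h2 : ⁅⁅V, Subgroup.zpowers g⁆, Subgroup.zpowers g⁆ = ⊥ := by
    rw [Subgroup.commutator_eq_bot_iff_le_centralizer]
    refine h1.trans ?_
    rintro z ⟨-, hz⟩
    rw [Subgroup.mem_centralizer_iff]
    rintro _ ⟨k, rfl⟩
    replace hz := Subgroup.mem_centralizer_singleton_iff.1 hz
    exact (Commute.zpow_left (show Commute g z from hz.symm) k)
  have h3 := hst V hVp g (hmem g) h2
  -- map to SL₂
  let C' := (Subgroup.centralizer (V : Set X)).subgroupOf (Subgroup.normalizer (V : Set X))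
  let ψ : (↥(Subgroup.normalizer (V : Set X)) ⧸ C') →* SL2 (ZMod p) :=
    QuotientGroup.lift C' (π.comp (Subgroup.normalizer (V : Set X)).subtype) (by
      rintro ⟨x, hx⟩ hxC
      exact (hCV x).1 hxC)
  have hψ : Function.Surjective ψ := by
    intro A
    obtain ⟨x, hx⟩ := hπ A
    exact ⟨QuotientGroup.mk ⟨x, hmem x⟩, hx⟩
  have h4 : (pCore p (↥(Subgroup.normalizer (V : Set X)) ⧸ C')).map ψ = ⊥ := by
    have := Subgroup.Normal.map (Cfsg.Agent.Solv.pCore_normal (G := ↥(Subgroup.normalizer (V : Set X)) ⧸ C') p) ψ hψ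
    exact sl2_normal_pSubgroup (p := p) _ ((Cfsg.Agent.Solv.pCore_isPGroup p).map _)
  have h5 : ψ (QuotientGroup.mk ⟨g, hmem g⟩) ∈ (pCore p (↥(Subgroup.normalizer (V : Set X)) ⧸ C')).map ψ :=
    ⟨_, h3, rfl⟩
  rw [h4, Subgroup.mem_bot] at h5
  have h6 : π g = 1 := h5
  rw [hgπ, ← sl2U_zero] at h6
  exact one_ne_zero (sl2U_injective h6)

end Cfsg.Agent.QdInv
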