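import Cfsg.Agent.QdInv.Converse
import Cfsg.Agent.H11.QdRed
import Cfsg.Agent.ZJ.Functor
/-!
`p`-stability in the normalizer form and `Qd(p)`.
-/
set_option autoImplicit false

namespace Cfsg.Agent.QdInv

open Cfsg Cfsg.Agent.H46

universe u v w

theorem mk_mem_congr {N : Type*} [Group N] {p : ℕ} {C C' : Subgroup N} [hC : C.Normal] [hC' : C'.Normal]
    (h : C = C') (a : N) : (QuotientGroup.mk a : N ⧸ C) ∈ pCore p (N ⧸ C) ↔
      (QuotientGroup.mk a : N ⧸ C') ∈ pCore p (N ⧸ C') := by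
  subst h
  rfl

theorem centralizer_subgroupOf_eq {X : Type*} [Group X] (P N : Subgroup X) (h : P ≤ N) :
    Subgroup.centralizer ((P.subgroupOf N : Subgroup ↥N) : Set ↥N) =
      (Subgroup.centralizer (P : Set X)).subgroupOf N := by
  ext x
  rw [Subgroup.mem_centralizer_iff, Subgroup.mem_subgroupOf, Subgroup.mem_centralizer_iff]
  constructor
  · intro h1 y hy
    exact congrArg Subtype.val (h1 ⟨y, h hy⟩ hy)
  · intro h1 y hy
    exact Subtype.ext (h1 y hy)

theorem commutator_zpowers_map {X : Type*} [Group X] (P N : Subgroup X) (h : P ≤ N) (g : ↥N)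
    (hq : ⁅⁅P, Subgroup.zpowers (g : X)⁆, Subgroup.zpowers (g : X)⁆ = ⊥) :
    ⁅⁅P.subgroupOf N, Subgroup.zpowers g⁆, Subgroup.zpowers g⁆ = ⊥ := by
  have h1 : (⁅⁅P.subgroupOf N, Subgroup.zpowers g⁆, Subgroup.zpowers g⁆).map N.subtype = ⊥ := by
    rw [Subgroup.map_commutator, Subgroup.map_commutator, Subgroup.map_subgroupOf_eq_of_le h,
      MonoidHom.map_zpowers]
    exact hq
  rwa [Subgroup.map_eq_bot_iff_of_injective _ N.subtype_injective] at h1

/-- Failure of `p`-stability at `(P, g)` gives a section `Qd(p)` of `N(P)`. -/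
theorem involves_qd_normalizer {p : ℕ} [Fact p.Prime] (hp2 : p ≠ 2) {X : Type u} [Group X] [Finite X]
    (P : Subgroup X) (hP : IsPGroup p P) (g : X) (hg : g ∈ Subgroup.normalizer (P : Set X))
    (hq : ⁅⁅P, Subgroup.zpowers g⁆, Subgroup.zpowers g⁆ = ⊥)
    (hn : (QuotientGroup.mk (s := (Subgroup.centralizer (P : Set X)).subgroupOf (Subgroup.normalizer (P : Set X)))
          (⟨g, hg⟩ : ↥(Subgroup.normalizer (P : Set X)))) ∉
        pCore p (↥(Subgroup.normalizer (P : Set X)) ⧸
          (Subgroup.centralizer (P : Set X)).subgroupOf (Subgroup.normalizer (P : Set X)))) :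
    Involves ↥(qd p) ↥(Subgroup.normalizer (P : Set X)) := by
  set N := Subgroup.normalizer (P : Set X) with hN
  have hPN : P ≤ N := Subgroup.le_normalizer
  have hPn : (P.subgroupOf N).Normal := Subgroup.normal_in_normalizer
  have hPp : IsPGroup p ↥(P.subgroupOf N) := hP.comap_of_injective N.subtype N.subtype_injective
  refine H11.involves_qd_of_not_stable hp2 (P.subgroupOf N) hPp ⟨g, hg⟩
    (H11.Quad.of_comm (commutator_zpowers_map P N hPN ⟨g, hg⟩ hq)) ?_
  rw [mk_mem_congr (centralizer_subgroupOf_eq P N hPN)]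
  exact hn

theorem stable_of_free {p : ℕ} [Fact p.Prime] (hp2 : p ≠ 2) {X : Type u} [Group X] [Finite X]
    (hfree : ¬ Involves ↥(qd p) X) : IsNormalizerPStable p X := by
  intro P hP g hg hq
  by_contra hn
  exact hfree (involves_of_subgroup (involves_qd_normalizer hp2 P hP g hg hq hn))

theorem involves_section {G : Type u} [Group G] (K R : Subgroup G) [hR : (R.subgroupOf K).Normal] :
    Involves (↥K ⧸ R.subgroupOf K) G := ⟨K, R, hR, ⟨MulEquiv.refl _⟩⟩

theorem free_section {H : Type v} [Group H] {G : Type u} [Group G] (hfree : ¬ Involves H G)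
    (K R : Subgroup G) [hR : (R.subgroupOf K).Normal] : ¬ Involves H (↥K ⧸ R.subgroupOf K) :=
  fun h => hfree (involves_trans h (involves_section K R))

/-- `p`-stability of all sections is equivalent to the absence of `Qd(p)` sections. -/
theorem free_iff_stable {p : ℕ} [Fact p.Prime] (hp2 : p ≠ 2) {G : Type u} [Group G] [Finite G] :
    ¬ Involves ↥(qd p) G ↔ ∀ (K R : Subgroup G) [hR : (R.subgroupOf K).Normal],
      IsNormalizerPStable p (↥K ⧸ R.subgroupOf K) := by
  constructor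
  · intro hfree K R hR
    exact stable_of_free hp2 (free_section hfree K R)
  · rintro h ⟨K, R, hR, ⟨e⟩⟩
    exact not_stable (p := p) e.symm (h K R)

/-- a converse for functors -/
theorem free_of_controls {p : ℕ} [Fact p.Prime] {G : Type u} [Group G] [Finite G]
    (h : ∀ (K R : Subgroup G) [hR : (R.subgroupOf K).Normal] (T : Sylow p (↥K ⧸ R.subgroupOf K)),
      Nontrivial ↥(T : Subgroup (↥K ⧸ R.subgroupOf K)) →
      ∃ T₀ : Subgroup ↥(T : Subgroup (↥K ⧸ R.subgroupOf K)), T₀ ≠ ⊥ ∧ T₀.Characteristic ∧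
        ControlsStrongFusion p (T₀.map (T : Subgroup (↥K ⧸ R.subgroupOf K)).subtype)) :
    ¬ Involves ↥(qd p) G := by
  rintro ⟨K, R, hR, ⟨e⟩⟩
  let T : Sylow p (↥K ⧸ R.subgroupOf K) := Classical.arbitrary _
  have hnt : Nontrivial ↥(T : Subgroup (↥K ⧸ R.subgroupOf K)) := by
    obtain ⟨Z, z, w, hz, hw, -, -, hV, -⟩ := exists_obstruction (p := p) e.symm T
    refine ⟨⟨⟨w, (hV T).2⟩, 1, ?_⟩⟩
    intro h1
    have : w = 1 := congrArg Subtype.val h1
    exact hw (this ▸ Z.one_mem)
  obtain ⟨T₀, h0, hc, hctrl⟩ := h K R T hnt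
  exact not_controls (p := p) e.symm T T₀ h0 hc hctrl

theorem characteristic_of_charP {p : ℕ} {W : ∀ (Q : Type u) [Group Q], Subgroup Q}
    (hW : IsCharPFunctor.{u} p W) (Q : Type u) [Group Q] [Finite Q] (hQ : IsPGroup p Q) :
    (W Q).Characteristic := Subgroup.characteristic_iff_map_eq.2 fun φ => hW.2 Q Q hQ φ

theorem charP_zja {p : ℕ} [Fact p.Prime] : IsCharPFunctor.{u} p (fun Q _ => ZJ.zja Q) := by
  refine ⟨?_, fun Q R _ _ _ _ φ => ZJ.isNat_zja Q R φ⟩
  intro Q _ _ hQ hnt h0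
  have hn : Nontrivial ↥(thompsonSubgroupA Q) := by
    rw [Subgroup.nontrivial_iff_ne_bot]
    intro h1
    obtain ⟨z, hz, hz1, -⟩ := ZJ.exists_center_elem hQ hnt
    -- every maximal abelian subgroup is nontrivial
    obtain ⟨A, hA⟩ : (maxAbelianSubgroups Q).Nonempty := by
      obtain ⟨A, hA, hmax⟩ := Set.Finite.exists_maximalFor (fun A : Subgroup Q => Nat.card A)
        {A : Subgroup Q | IsMulCommutative A} (Set.toFinite _) ⟨⊥, by
          show IsMulCommutative (⊥ : Subgroup Q); infer_instance⟩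
      refine ⟨A, hA, fun B hB => ?_⟩
      by_contra hlt
      push Not at hlt
      exact absurd (hmax hB hlt.le) (not_le.2 hlt)
    have hAb : A = ⊥ := by
      rw [eq_bot_iff, ← h1]
      exact le_sSup hA
    have h2 := hA.2 (Subgroup.zpowers z) inferInstance
    rw [hAb, Subgroup.card_bot] at h2
    have h3 : Nat.card ↥(Subgroup.zpowers z) = 1 := le_antisymm h2 Nat.card_pos
    rw [Subgroup.card_eq_one, Subgroup.zpowers_eq_bot] at h3
    exact hz1 h3
  have hJp : IsPGroup p ↥(thompsonSubgroupA Q) := hQ.to_subgroup _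
  have h1 : Nontrivial (Subgroup.center ↥(thompsonSubgroupA Q)) := hJp.center_nontrivial
  obtain ⟨z, hz1⟩ := exists_ne (1 : Subgroup.center ↥(thompsonSubgroupA Q))
  apply hz1
  have h2 : ((z : ↥(thompsonSubgroupA Q)) : Q) ∈ ZJ.zja Q := by
    refine ⟨(z : ↥(thompsonSubgroupA Q)).2, Subgroup.mem_centralizer_iff.2 ?_⟩
    intro x hx
    exact congrArg Subtype.val (Subgroup.mem_center_iff.1 z.2 ⟨x, hx⟩)
  have h3 : ZJ.zja Q = ⊥ := h0
  rw [h3, Subgroup.mem_bot] at h2
  exact Subtype.ext (Subtype.ext h2)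

end Cfsg.Agent.QdInv
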