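import Cfsg.Agent.QdInv.Climb
import Cfsg.Agent.QdInv.RealLoc
import Cfsg.Agent.QdInv.Real
import Cfsg.Agent.QdInv.Control
import Cfsg.Agent.ZJ.Theorem
import Cfsg.Agent.S0200
/-!
Real `p`-elements (`p` odd) are detected in the normalizer of `Z(J(S))`.
-/
set_option autoImplicit false
set_option linter.all false

namespace Cfsg.Agent.QdInv

open Cfsg Cfsg.Agent.H33

universe u

theorem realEP {p : ℕ} [hp : Fact p.Prime] (hp2 : p ≠ 2) : EP.{u} p (fun X _ => RealP p X) where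
  inj := fun f hf h => RealP.inj f hf h
  quot := fun N _ h => RealP.quot hp2 N h
  ctl := fun S H hSH h h' => RealP.ctl S H hSH h h'
  loc := fun P hP a b hL hqa hqb hap hg => real_loc hp2 hP hL hqa hqb hap hg

/-- if some nonidentity `p`-element of `X` is inverted in `X` then some is in the normalizer of `Z(J(S))`. -/
theorem real_main {p : ℕ} [hp : Fact p.Prime] (hp2 : p ≠ 2) {X : Type u} [Group X] [Finite X]
    (h : RealP p X) (S : Sylow p X) :
    RealP p ↥(Subgroup.normalizer ((centerThompsonAOf (S : Subgroup X) : Subgroup X) : Set X)) := by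
  rcases climb (W := @ZJ.zja) (realEP hp2) charP_zja (by
    intro X _ _ S hc hst
    rw [induced_zja]
    have := ZJ.centerThompsonAOf_characteristic hp2 hc hst S
    infer_instance) (Nat.card X) X le_rfl with h1 | h1
  · have h2 := CK.of_family charP_zja (isSyl_top S) h1
    rw [← induced_zja]
    refine RealP.ctl S _ (cf_norm_le (induced_conj charP_zja) S.2) ?_ h
    intro A hA g hg
    obtain ⟨n, hn, h3⟩ := h2 A hA g trivial hg
    exact ⟨n, hn.2, h3⟩
  · have h2 := h1 S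
    rw [induced_zja] at h2
    exact h2

/-- in a group with a normal Sylow 2-subgroup no nonidentity element of odd order is inverted -/
theorem not_real_of_closed {G : Type*} [Group G] [Finite G] {Q : Subgroup G} [Q.Normal]
    (hQ : IsPGroup 2 Q) (hi : ¬ 2 ∣ Q.index) {x g : G} (hx : Odd (orderOf x)) (hx1 : x ≠ 1) :
    g * x * g⁻¹ ≠ x⁻¹ := by
  intro h
  have hodd : Odd (orderOf (g : G ⧸ Q)) := by
    rw [← Nat.not_even_iff_odd, even_iff_two_dvd]
    intro h2
    exact hi (h2.trans (orderOf_dvd_natCard _))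
  obtain ⟨m, hm⟩ := hodd
  -- `g ^ (2m+1)` lies in `Q` and inverts `x`
  have hstep : ∀ j : ℕ, g ^ (2 * j) * x * (g ^ (2 * j))⁻¹ = x := by
    intro j
    induction j with
    | zero => simp
    | succ j ih =>
      have e : g ^ (2 * (j + 1)) * x * (g ^ (2 * (j + 1)))⁻¹ =
          g * (g * (g ^ (2 * j) * x * (g ^ (2 * j))⁻¹) * g⁻¹) * g⁻¹ := by
        rw [show 2 * (j + 1) = 2 * j + 1 + 1 by ring, pow_succ', pow_succ']; group
      rw [e, ih, h]
      have e2 : g * x⁻¹ * g⁻¹ = (g * x * g⁻¹)⁻¹ := by group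
      rw [e2, h, inv_inv]
  have h1 : g ^ (2 * m + 1) * x * (g ^ (2 * m + 1))⁻¹ = x⁻¹ := by
    have e : g ^ (2 * m + 1) * x * (g ^ (2 * m + 1))⁻¹ = g * (g ^ (2 * m) * x * (g ^ (2 * m))⁻¹) * g⁻¹ := by
      rw [pow_succ']; group
    rw [e, hstep, h]
  have hgQ : g ^ (2 * m + 1) ∈ Q := by
    rw [← QuotientGroup.eq_one_iff, ← hm]
    exact pow_orderOf_eq_one (g : G ⧸ Q)
  -- `x⁻¹ * x⁻¹ = [g^n, x] ∈ Q`
  have h2 : x⁻¹ * x⁻¹ ∈ Q := by
    have h3 := Q.mul_mem hgQ ((inferInstance : Q.Normal).conj_mem _ (Q.inv_mem hgQ) x)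
    have e : g ^ (2 * m + 1) * (x * (g ^ (2 * m + 1))⁻¹ * x⁻¹) = x⁻¹ * x⁻¹ := by
      calc _ = g ^ (2 * m + 1) * x * (g ^ (2 * m + 1))⁻¹ * x⁻¹ := by group
        _ = _ := by rw [h1]
    rwa [e] at h3
  obtain ⟨k, hk⟩ := hQ ⟨_, h2⟩
  have hk' : (x⁻¹ * x⁻¹) ^ 2 ^ k = 1 := congrArg Subtype.val hk
  have h3 : x ^ (2 ^ (k + 1)) = 1 := by
    rw [← mul_inv_rev, inv_pow, inv_eq_one, ← pow_two, ← pow_mul] at hk'
    rw [pow_succ', hk']
  have h4 := orderOf_dvd_of_pow_eq_one h3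
  have h5 : (orderOf x).Coprime (2 ^ (k + 1)) := Nat.Coprime.pow_right _ (Nat.coprime_two_right.2 hx)
  have h6 : orderOf x = 1 := Nat.Coprime.eq_one_of_dvd h5 h4
  exact hx1 (orderOf_eq_one_iff.1 h6)

/-- if no element of odd prime power order is inverted then `G` has a normal Sylow 2-subgroup -/
theorem closed_of_not_real {G : Type u} [Group G] [Finite G]
    (h : ∀ (q : ℕ) [Fact q.Prime], q ≠ 2 → ¬ RealP q G) (P : Sylow 2 G) : (P : Subgroup G).Normal := by
  by_contra hP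
  have hlt : ¬ (P : Subgroup G) ≤ pCore 2 G := by
    intro h1
    apply hP
    have h2 : (P : Subgroup G) = pCore 2 G := le_antisymm h1 (Cfsg.Agent.Solv.pCore_le_sylow P)
    rw [h2]
    infer_instance
  set f := QuotientGroup.mk' (pCore 2 G) with hf
  have hfs : Function.Surjective f := QuotientGroup.mk'_surjective _
  -- an involution in the quotient
  obtain ⟨x, hx, hxN⟩ := Set.not_subset.1 hlt
  have hfx : f x ≠ 1 := fun h1 => hxN ((QuotientGroup.eq_one_iff x).1 h1)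
  obtain ⟨k, hk⟩ := P.2 ⟨x, hx⟩
  have hk' : x ^ 2 ^ k = 1 := congrArg Subtype.val hk
  have hfk : f x ^ 2 ^ k = 1 := by rw [← map_pow, hk', map_one]
  obtain ⟨t, ht⟩ : ∃ t : G ⧸ pCore 2 G, orderOf t = 2 := by
    obtain ⟨j, hj⟩ := (Nat.dvd_prime_pow Nat.prime_two).1 (orderOf_dvd_of_pow_eq_one hfk)
    have h2 : 2 ∣ orderOf (f x) := by
      rw [hj.2]
      apply dvd_pow_self
      rintro rfl
      apply hfx
      rw [← orderOf_eq_one_iff, hj.2, pow_zero]
    refine ⟨f x ^ (orderOf (f x) / 2), ?_⟩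
    exact orderOf_pow_orderOf_div (orderOf_pos _).ne' h2
  obtain ⟨y, hy1, hyo, hty⟩ := Cfsg.Agent.S0200.result t ht (by
    intro N hN hNp htN
    have h1 : N.comap f ≤ pCore 2 G := by
      refine Cfsg.Agent.Solv.le_pCore (hN.comap f) ?_
      have hker : IsPGroup 2 f.ker := by
        rw [QuotientGroup.ker_mk']; exact Cfsg.Agent.Solv.pCore_isPGroup (G := G) 2
      exact hNp.comap_of_ker_isPGroup f hker
    obtain ⟨s, rfl⟩ := hfs t
    have h2 : f s = 1 := (QuotientGroup.eq_one_iff s).2 (h1 htN)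
    rw [h2, orderOf_one] at ht
    omega)
  -- a power of prime order
  obtain ⟨q, hq, hqd⟩ := Nat.exists_prime_and_dvd (fun h1 => hy1 (orderOf_eq_one_iff.1 h1))
  haveI : Fact q.Prime := ⟨hq⟩
  have hq2 : q ≠ 2 := by
    rintro rfl
    exact (Nat.not_even_iff_odd.2 hyo) (even_iff_two_dvd.2 hqd)
  have h1 : orderOf (y ^ (orderOf y / q)) = q := orderOf_pow_orderOf_div (orderOf_pos _).ne' hqd
  refine h q hq2 (RealP.quot hq2 (pCore 2 G) ⟨y ^ (orderOf y / q), t, ⟨1, ?_⟩, ?_, ?_⟩)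
  · rw [pow_one]
    have h2 := pow_orderOf_eq_one (y ^ (orderOf y / q))
    rwa [h1] at h2
  · intro h2
    rw [h2, orderOf_one] at h1
    exact hq.one_lt.ne h1
  · rw [← conj_pow, hty, inv_pow]

end Cfsg.Agent.QdInv
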