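import Cfsg.Agent.H33.SecControl
/-!
The nonconstrained step (adapted from `H33.sf_step`), with the hypotheses on overgroups of a Sylow subgroup only.
-/
set_option autoImplicit false
set_option linter.all false

namespace Cfsg.Agent.QdInv

open Cfsg Cfsg.Agent.H33

universe u

variable {G : Type u} [Group G] {p : ℕ}
variable {𝓦 : Set (∀ (Q : Type u) [Group Q], Subgroup Q)}

theorem sf_noncons [Finite G] [hp : Fact p.Prime] (h𝓦 : ∀ W ∈ 𝓦, IsCharPFunctor.{u} p W) (S : Sylow p G)
    (hQ1 : Cfsg.pCore p G ≠ ⊥)
    (hcen : ¬ (S : Subgroup G) ⊓ Subgroup.centralizer ((Cfsg.pCore p G : Subgroup G) : Set G) ≤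
      Cfsg.pCore p G)
    (hprop : ∀ K : Subgroup G, (S : Subgroup G) ≤ K → K ≠ ⊤ → ∀ A ≤ (S : Subgroup G), ∀ h ∈ K,
      cj h A ≤ (S : Subgroup G) → SFc (nFam (ind G 𝓦) ⊤ (S : Subgroup G)) (S : Subgroup G) A h)
    (hquot : FamilyControlsStrongFusionIn p (ind (G ⧸ Cfsg.pCore p G) 𝓦) ⊤) :
    FamilyControlsStrongFusionIn p (ind G 𝓦) ⊤ := by
  classical
  have hconj := ind_conj (G := G) h𝓦
  -- the main case
  obtain ⟨Q, hQ⟩ : ∃ Q, Q = Cfsg.pCore p G := ⟨_, rfl⟩
  have hquot' : ∀ [Q.Normal], FamilyControlsStrongFusionIn p (ind (G ⧸ Q) 𝓦) ⊤ := by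
    subst hQ
    intro _
    exact hquot
  have hprop' := hprop
  obtain ⟨L, hL⟩ : ∃ L, L = Q ⊔ Subgroup.centralizer (Q : Set G) := ⟨_, rfl⟩
  obtain ⟨P₁, hP₁⟩ : ∃ P₁, P₁ = (S : Subgroup G) ⊓ L := ⟨_, rfl⟩
  have nc : NonCons p S Q L P₁ := ⟨hQ, hL, hP₁, by rw [hQ]; exact hcen⟩
  haveI hQn := nc.normalQ
  haveI hLn := nc.normalL
  have hQS : Q < (S : Subgroup G) := by
    refine lt_of_le_of_ne nc.QS ?_
    rintro he
    exact nc.not_PQ (by rw [he]; exact nc.PS)
  set 𝒩 := nFam (ind G 𝓦) ⊤ (S : Subgroup G) with h𝒩
  refine family_iff.2 ⟨(S : Subgroup G), isSyl_top S, ?_⟩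
  have hmain : ∀ A, A ≤ (S : Subgroup G) → ∀ g, cj g A ≤ (S : Subgroup G) →
      SFc 𝒩 (S : Subgroup G) A g := by
    refine alperin_abstract S Q nc.QS _ (fun A' A g hA' _ _ h => h.mono hA')
      (fun A g h _ _ _ h1 h2 => h1.trans h2) (fun A g _ _ h => h.inv) ?_ ?_
    · intro g hg
      exact hprop _ Subgroup.le_normalizer nc.NS_ne S le_rfl g hg (le_of_eq (mem_norm_iff.1 hg))
    · intro A hQA hAS IH
      obtain ⟨a, ha1, ha2⟩ := domain_fullyNormalized S A
      obtain ⟨U, hU⟩ : ∃ U, U = cj a A := ⟨_, rfl⟩
      rw [← hU] at ha2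
      have hUS : U ≤ (S : Subgroup G) := by
        rw [hU]; exact (cj_mono (le_inf hAS.le Subgroup.le_normalizer)).trans ha1
      have hQU : Q ≤ U := by
        have := cj_mono (g := a) hQA
        rwa [cj_normal, ← hU] at this
      have hcardU : Nat.card U = Nat.card A := by rw [hU, card_cj]
      rw [← hcardU] at IH
      refine ⟨a, by rw [← hU]; exact hUS, by rw [← hU]; exact ha2, ?_⟩
      rw [← hU]
      intro y hy
      have hyU : cj y U = U := mem_norm_iff.1 hy
      by_cases hLS : L ⊔ (S : Subgroup G) = ⊤
      · -- `G = L S`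
        -- p'-elements centralize `Q`
        have hp'Q : ∀ x : G, (orderOf x).Coprime p → x ∈ Subgroup.centralizer (Q : Set G) := by
          intro x hx
          set C : Subgroup G := Subgroup.centralizer (Q : Set G) with hC
          haveI : C.Normal := inferInstance
          have h1 : C ⊔ (S : Subgroup G) = ⊤ := by
            rw [← hLS, hL, sup_comm Q C, sup_assoc, sup_eq_right.2 nc.QS]
          have h2 : IsPGroup p (G ⧸ C) := by
            have h3 : Function.Surjective ((QuotientGroup.mk' C).comp (S : Subgroup G).subtype) := by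
              intro z
              obtain ⟨g, rfl⟩ := QuotientGroup.mk'_surjective C z
              have hg : g ∈ (S : Subgroup G) ⊔ C := by rw [sup_comm, h1]; trivial
              obtain ⟨s, hs, c, hc, rfl⟩ := (mem_sup_right_norm (by
                rw [Subgroup.normalizer_eq_top]; exact le_top)).1 hg
              refine ⟨⟨s, hs⟩, ?_⟩
              show QuotientGroup.mk' C s = QuotientGroup.mk' C (s * c)
              rw [map_mul, show QuotientGroup.mk' C c = 1 from (QuotientGroup.eq_one_iff c).2 hc, mul_one]
            exact S.2.of_surjective _ h3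
          have h3 := Cfsg.Agent.Transfer.map_eq_one_of_coprime_of_isPGroup h2 (QuotientGroup.mk' C) hx
          exact (QuotientGroup.eq_one_iff x).1 h3
        set f := QuotientGroup.mk' Q with hf
        have hker : f.ker = Q := QuotientGroup.ker_mk' Q
        have hsurj : Function.Surjective f := QuotientGroup.mk'_surjective Q
        have hS' : IsSyl p ((S : Subgroup G).map f) (⊤ : Subgroup (G ⧸ Q)) := by
          have := (isSyl_top S).map f
          rwa [← MonoidHom.range_eq_map, MonoidHom.range_eq_top_of_surjective _ hsurj] at this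
        have hQne : Q ≠ ⊥ := by rw [hQ]; exact hQ1
        have hc := SFcontrol.of_family (ind_conj h𝓦) hquot' hS'
        have h1 : cj (f y) (U.map f) ≤ (S : Subgroup G).map f := by
          rw [← map_cj]; exact Subgroup.map_mono (by rw [hyU]; exact hUS)
        have h2 := hc (U.map f) (Subgroup.map_mono hUS) (f y) (Subgroup.mem_top _) h1
        obtain ⟨y', hy1, hy2⟩ := lift_chain f (S : Subgroup G) Q (𝒩 := 𝒩) (by
          rintro _ ⟨_, ⟨W, hW, rfl⟩, rfl⟩ x' hx' B hB hQB hB'
          obtain ⟨x, rfl⟩ := hsurj x'
          refine ⟨x, rfl, hprop _ (S_le_comap_W (h𝓦 W hW) S Q) (comap_W_ne (h𝓦 W hW) S Q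
            (by rw [← hQ]) hQS) B hB x ?_ ?_⟩
          · rw [← Subgroup.comap_normalizer_eq_of_surjective _ hsurj]
            exact hx'.2
          · rw [← map_cj] at hB'
            have h3 := Subgroup.comap_mono (f := f) hB'
            rw [Subgroup.comap_map_eq, Subgroup.comap_map_eq, hker] at h3
            exact le_sup_left.trans (h3.trans (sup_le le_rfl nc.QS))) h2 U hUS hQU rfl
        have hy'U : cj y' U = U := by
          have h3 : (cj y' U).map f ≤ U.map f := by
            rintro _ ⟨z, hz, rfl⟩
            obtain ⟨u, hu, rfl⟩ := hz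
            have h4 := hy2 u hu
            simp only [MulEquiv.coe_toMonoidHom, MulAut.conj_apply]
            rw [h4]
            refine ⟨y * u * y⁻¹, ?_, by simp⟩
            rw [← hyU]; exact conj_mem_cj hu
          have h4 := Subgroup.comap_mono (f := f) h3
          rw [Subgroup.comap_map_eq, Subgroup.comap_map_eq, hker] at h4
          exact cj_eq_of_le (le_sup_left.trans (h4.trans (sup_le le_rfl hQU)))
        have hy' : y' ∈ Subgroup.normalizer (U : Set G) := mem_norm_iff.2 hy'U
        obtain ⟨D, hD⟩ : ∃ D : Subgroup G, D = Subgroup.normalizer (U : Set G) ⊓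
          (Subgroup.centralizer ((U.map f : Subgroup (G ⧸ Q)) : Set (G ⧸ Q))).comap f := ⟨_, rfl⟩
        have hdD : y * y'⁻¹ ∈ D := by
          rw [hD]
          refine Subgroup.mem_inf.2 ⟨Subgroup.mul_mem _ hy (Subgroup.inv_mem _ hy'), Subgroup.mem_comap.2 ?_⟩
          rw [Subgroup.mem_centralizer_iff]
          rintro _ ⟨u, hu, rfl⟩
          have h3 : y'⁻¹ * u * y' ∈ U := by
            have : u ∈ cj y' U := by rw [hy'U]; exact hu
            exact mem_cj.1 this
          have h4 := hy2 _ h3
          have e1 : y' * (y'⁻¹ * u * y') * y'⁻¹ = u := by group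
          rw [e1] at h4
          simp only [map_mul, map_inv] at h4 ⊢
          have h5 : f u = f y * (f y')⁻¹ * f u * f y' * (f y)⁻¹ := h4.trans (by group)
          calc f u * (f y * (f y')⁻¹) =
              (f y * (f y')⁻¹ * f u * f y' * (f y)⁻¹) * (f y * (f y')⁻¹) := by rw [← h5]
            _ = f y * (f y')⁻¹ * f u := by group
        have hDN : Subgroup.normalizer (U : Set G) ≤ Subgroup.normalizer (D : Set G) := by
          intro n hn
          rw [hD]
          refine norm_inf (Subgroup.le_normalizer hn) ?_
          rw [← Subgroup.comap_normalizer_eq_of_surjective _ hsurj]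
          rw [Subgroup.mem_comap]
          refine norm_le_norm_cent _ ?_
          rw [mem_norm_iff, ← map_cj, mem_norm_iff.1 hn]
        have hSD : IsSyl p (nS (S : Subgroup G) U ⊓ D) D := by
          refine ha2.inf_normal ?_ hDN
          rw [hD]; exact inf_le_left
        have hCD : Subgroup.centralizer (U : Set G) ≤ D := by
          rw [hD]
          refine le_inf (cent_le_norm' U) ?_
          intro c hc
          rw [Subgroup.mem_comap, Subgroup.mem_centralizer_iff]
          rintro _ ⟨u, hu, rfl⟩
          rw [← map_mul, ← map_mul, Subgroup.mem_centralizer_iff.1 hc u hu]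
        obtain ⟨c, hcC, s, hs, hcs⟩ := hSD.sup_eq hCD (by
          refine le_trans ?_ (norm_le_norm_cent U)
          rw [hD]; exact inf_le_left) (by
          intro x hx hxp
          rw [Subgroup.mem_centralizer_iff]
          intro u hu
          have hx1 : x ∈ Subgroup.centralizer (Q : Set G) := hp'Q x hxp
          rw [hD] at hx
          have h3 := (Subgroup.mem_centralizer_iff.1 hx.2) (f u) ⟨u, hu, rfl⟩
          -- x u x⁻¹ = q u
          have h4 : x * u * x⁻¹ * u⁻¹ ∈ Q := by
            rw [← hker, MonoidHom.mem_ker]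
            simp only [map_mul, map_inv]
            rw [← h3]; group
          set q := x * u * x⁻¹ * u⁻¹ with hq
          have hxq : x * q = q * x := (Subgroup.mem_centralizer_iff.1 hx1 q h4).symm
          have h5 : ∀ k : ℕ, x ^ k * u * (x ^ k)⁻¹ = q ^ k * u := by
            intro k
            induction k with
            | zero => simp
            | succ k ih =>
              have hcomm : Commute x (q ^ k) := (show Commute x q from hxq).pow_right k
              calc x ^ (k + 1) * u * (x ^ (k + 1))⁻¹ = x * (x ^ k * u * (x ^ k)⁻¹) * x⁻¹ := by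
                    rw [pow_succ']; group
                _ = x * (q ^ k * u) * x⁻¹ := by rw [ih]
                _ = (x * q ^ k) * u * x⁻¹ := by group
                _ = (q ^ k * x) * u * x⁻¹ := by rw [hcomm.eq]
                _ = q ^ k * (x * u * x⁻¹ * u⁻¹) * u := by group
                _ = q ^ (k + 1) * u := by rw [← hq, pow_succ]
          have h6 : q ^ orderOf x = 1 := by
            have := h5 (orderOf x)
            rw [pow_orderOf_eq_one] at this
            simpa using this
          have h7 : q = 1 := by
            obtain ⟨k, hk⟩ := (isPGroup_sub S.2 nc.QS) ⟨q, h4⟩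
            have hk' : q ^ p ^ k = 1 := congrArg Subtype.val hk
            rw [← orderOf_eq_one_iff]
            exact Nat.Coprime.eq_one_of_dvd (Nat.Coprime.pow_right k
              (Nat.Coprime.coprime_dvd_left (orderOf_dvd_of_pow_eq_one h6) hxp))
              (orderOf_dvd_of_pow_eq_one hk')
          rw [hq] at h7
          rw [mul_inv_eq_one] at h7
          calc u * x = (x * u * x⁻¹) * x := by rw [h7]
            _ = x * u := by group) _ hdD
        have hsS : s ∈ (S : Subgroup G) := hs.1.1
        have hsU : cj s U = U := mem_norm_iff.1 hs.1.2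
        have h3 : SFc 𝒩 (S : Subgroup G) U s := by
          refine hprop _ nc.SM nc.M_ne U hUS s (nc.SM hsS) ?_
          rw [hsU]; exact hUS
        have h4 : SFc 𝒩 (S : Subgroup G) U (s * y') := hy1.trans (by rw [hy'U]; exact h3)
        refine h4.congr (fun u hu => ?_)
        have hyy : y = c * (s * y') := by
          have : y = (y * y'⁻¹) * y' := by group
          rw [this, hcs]; group
        have h5 : (s * y') * u * (s * y')⁻¹ ∈ U := by
          have h6 : (s * y') * u * (s * y')⁻¹ ∈ cj (s * y') U := conj_mem_cj hu
          rwa [cj_mul, hy'U, hsU] at h6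
        have h6 := Subgroup.mem_centralizer_iff.1 hcC _ h5
        rw [hyy]
        calc c * (s * y') * u * (c * (s * y'))⁻¹ = c * ((s * y') * u * (s * y')⁻¹) * c⁻¹ := by group
          _ = ((s * y') * u * (s * y')⁻¹) * c * c⁻¹ := by rw [← h6]
          _ = (s * y') * u * (s * y')⁻¹ := by group
      · -- `L S < G`
        obtain ⟨N, hN⟩ : ∃ N : Subgroup G, N = L ⊓ Subgroup.normalizer (U : Set G) := ⟨_, rfl⟩
        have hNN : Subgroup.normalizer (U : Set G) ≤ Subgroup.normalizer (N : Set G) := by
          intro n hn
          rw [hN]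
          refine norm_inf ?_ (Subgroup.le_normalizer hn)
          rw [Subgroup.normalizer_eq_top]; trivial
        have hB : IsSyl p (nS (S : Subgroup G) U ⊓ N) N := by
          refine ha2.inf_normal ?_ hNN
          rw [hN]; exact inf_le_right
        obtain ⟨B, hBdef⟩ : ∃ B : Subgroup G, B = nS (S : Subgroup G) U ⊓ N := ⟨_, rfl⟩
        rw [← hBdef] at hB
        obtain ⟨n, hn, hny⟩ := hB.frattini (hNN hy)
        have hnN : n ∈ Subgroup.normalizer (U : Set G) := by rw [hN] at hn; exact hn.2
        have hnL : n ∈ L := by rw [hN] at hn; exact hn.1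
        have hBS : B ≤ (S : Subgroup G) := by rw [hBdef]; exact inf_le_left.trans inf_le_left
        -- (n y) normalizes U ⊔ B
        have hkey : SFc 𝒩 (S : Subgroup G) U (n * y) := by
          by_cases hBU : B ≤ U
          · -- then P₁ ≤ U
            have hP₁U : P₁ ≤ U := by
              by_contra hnot
              have hlt : U < U ⊔ P₁ := by
                refine lt_of_le_of_ne le_sup_left ?_
                intro he
                exact hnot (le_sup_right.trans (le_of_eq he.symm))
              have h3 := lt_inf_normalizer (isPGroup_sub S.2 (sup_le hUS nc.PS)) hlt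
              obtain ⟨z, hz, hzU⟩ := SetLike.exists_of_lt h3
              obtain ⟨u, hu, q, hq, rfl⟩ := (mem_sup_right_norm (hUS.trans nc.SM)).1 hz.1
              apply hzU
              refine U.mul_mem hu (hBU ?_)
              have hqN : q ∈ Subgroup.normalizer (U : Set G) := by
                have := Subgroup.mul_mem _ (Subgroup.inv_mem _ (Subgroup.le_normalizer hu)) hz.2
                rwa [inv_mul_cancel_left] at this
              rw [hBdef, hN]
              exact ⟨⟨nc.PS hq, hqN⟩, nc.PL hq, hqN⟩
            have hUL : U ⊓ L = P₁ := by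
              apply le_antisymm
              · rw [hP₁]; exact inf_le_inf_right _ hUS
              · exact le_inf hP₁U nc.PL
            have hnyU : n * y ∈ Subgroup.normalizer (U : Set G) := Subgroup.mul_mem _ hnN hy
            have hnyM : n * y ∈ Subgroup.normalizer (P₁ : Set G) := by
              rw [← hUL]
              refine norm_inf hnyU ?_
              rw [Subgroup.normalizer_eq_top]; trivial
            refine hprop _ nc.SM nc.M_ne U hUS _ hnyM ?_
            rw [mem_norm_iff.1 hnyU]; exact hUS
          · have hlt : U < U ⊔ B := by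
              refine lt_of_le_of_ne le_sup_left ?_
              intro he
              exact hBU (le_sup_right.trans (le_of_eq he.symm))
            have hny2 : n * y ∈ Subgroup.normalizer ((U ⊔ B : Subgroup G) : Set G) :=
              norm_sup (Subgroup.mul_mem _ hnN hy) hny
            have h3 := IH (U ⊔ B) (sup_le hUS hBS) (card_lt_card_of_lt hlt) (n * y) (by
              rw [mem_norm_iff.1 hny2]; exact sup_le hUS hBS)
            exact h3.mono le_sup_left
        have h4 : SFc 𝒩 (S : Subgroup G) (cj (n * y) U) n⁻¹ := by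
          have e1 : cj (n * y) U = U := by rw [cj_mul, hyU, mem_norm_iff.1 hnN]
          rw [e1]
          refine hprop _ le_sup_right hLS U hUS n⁻¹ (Subgroup.mem_sup_left (L.inv_mem hnL)) ?_
          rw [mem_norm_iff.1 (Subgroup.inv_mem _ hnN)]; exact hUS
        have h5 := hkey.trans h4
        rwa [inv_mul_cancel_left] at h5
  intro A hA g _ hgA
  exact hmain A hA g hgA

end Cfsg.Agent.QdInv
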