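import Cfsg.Agent.H33.StrongFusion
import Cfsg.Agent.H33.Sections
import Cfsg.Agent.H33.Frattini
import Cfsg.Prelude.Def_LocalEven
/-!
A strongly closed abelian subgroup controls strong fusion.
-/
set_option autoImplicit false
set_option linter.all false

namespace Cfsg.Agent.QdInv

open Cfsg Cfsg.Agent.H33

variable {G : Type*} [Group G] {p : ℕ}

/-- elements of `N(U)` stabilizing the chain `U ≥ B ≥ 1` -/
def chainStab (U B : Subgroup G) : Subgroup G where
  carrier := {x | x ∈ Subgroup.normalizer (U : Set G) ∧ (∀ u ∈ U, x * u * x⁻¹ * u⁻¹ ∈ B) ∧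
    ∀ b ∈ B, x * b * x⁻¹ = b}
  one_mem' := ⟨one_mem _, by intro u hu; simp [B.one_mem], by intro b hb; simp⟩
  mul_mem' := by
    rintro x y ⟨hx1, hx2, hx3⟩ ⟨hy1, hy2, hy3⟩
    refine ⟨mul_mem hx1 hy1, ?_, ?_⟩
    · intro u hu
      have h1 : y * u * y⁻¹ ∈ U := (Subgroup.mem_normalizer_iff.1 hy1 u).1 hu
      have h2 := B.mul_mem (hx2 _ h1) (hy2 u hu)
      have h3 : x * (y * u * y⁻¹) * x⁻¹ * (y * u * y⁻¹)⁻¹ * (y * u * y⁻¹ * u⁻¹) =
        x * y * u * (x * y)⁻¹ * u⁻¹ := by group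
      rwa [h3] at h2
    · intro b hb
      calc x * y * b * (x * y)⁻¹ = x * (y * b * y⁻¹) * x⁻¹ := by group
        _ = b := by rw [hy3 b hb, hx3 b hb]
  inv_mem' := by
    rintro x ⟨hx1, hx2, hx3⟩
    refine ⟨inv_mem hx1, ?_, ?_⟩
    · intro u hu
      have h1 : x⁻¹ * u * x ∈ U := by
        have := (Subgroup.mem_normalizer_iff.1 (inv_mem hx1) u).1 hu
        simpa using this
      have h2 := B.inv_mem (hx2 _ h1)
      have h3 : (x * (x⁻¹ * u * x) * x⁻¹ * (x⁻¹ * u * x)⁻¹)⁻¹ = x⁻¹ * u * x⁻¹⁻¹ * u⁻¹ := by group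
      rwa [h3] at h2
    · intro b hb
      calc x⁻¹ * b * x⁻¹⁻¹ = x⁻¹ * (x * b * x⁻¹) * x := by rw [hx3 b hb]; group
        _ = b := by group

theorem mem_chainStab {U B : Subgroup G} {x : G} : x ∈ chainStab U B ↔
    x ∈ Subgroup.normalizer (U : Set G) ∧ (∀ u ∈ U, x * u * x⁻¹ * u⁻¹ ∈ B) ∧ ∀ b ∈ B, x * b * x⁻¹ = b :=
  Iff.rfl

theorem chainStab_pow {U B : Subgroup G} {x u b : G} (hx : ∀ b ∈ B, x * b * x⁻¹ = b) (hb : b ∈ B)
    (h : x * u * x⁻¹ = b * u) (k : ℕ) : x ^ k * u * (x ^ k)⁻¹ = b ^ k * u := by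
  induction k with
  | zero => simp
  | succ k ih =>
    have h1 : x * b ^ k * x⁻¹ = b ^ k := hx _ (pow_mem hb k)
    calc x ^ (k + 1) * u * (x ^ (k + 1))⁻¹ = x * (x ^ k * u * (x ^ k)⁻¹) * x⁻¹ := by
          rw [pow_succ']; group
      _ = (x * b ^ k * x⁻¹) * (x * u * x⁻¹) := by rw [ih]; group
      _ = b ^ (k + 1) * u := by rw [h1, h, pow_succ]; group

theorem controls_of_strongly_closed [Finite G] [Fact p.Prime] (S : Sylow p G) (A : Subgroup G)
    (hA : IsMulCommutative ↥A) (hsc : IsStronglyClosed A (S : Subgroup G)) :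
    ∀ X, X ≤ (S : Subgroup G) → ∀ g, cj g X ≤ (S : Subgroup G) →
      ∃ n ∈ Subgroup.normalizer (A : Set G), ∀ x ∈ X, n * x * n⁻¹ = g * x * g⁻¹ := by
  obtain ⟨hAS, hcl⟩ := hsc
  have hAn : (S : Subgroup G) ≤ Subgroup.normalizer (A : Set G) := by
    intro s hs
    apply mem_norm_of_le
    rw [cj_le_iff]
    intro a ha
    exact hcl a ha s (mul_mem (mul_mem hs (hAS ha)) (inv_mem hs))
  refine alperin_abstract S ⊥ bot_le
    (fun X g => ∃ n ∈ Subgroup.normalizer (A : Set G), ∀ x ∈ X, n * x * n⁻¹ = g * x * g⁻¹)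
    ?_ ?_ ?_ ?_ ?_
  · rintro A' B g hle _ _ ⟨n, hn, h⟩
    exact ⟨n, hn, fun x hx => h x (hle hx)⟩
  · rintro B g h _ _ _ ⟨n, hn, h1⟩ ⟨m, hm, h2⟩
    refine ⟨m * n, mul_mem hm hn, fun x hx => ?_⟩
    have h3 := h2 _ (conj_mem_cj (g := g) hx)
    calc m * n * x * (m * n)⁻¹ = m * (n * x * n⁻¹) * m⁻¹ := by group
      _ = m * (g * x * g⁻¹) * m⁻¹ := by rw [h1 x hx]
      _ = h * g * x * (h * g)⁻¹ := by rw [h3]; group
  · rintro B g _ _ ⟨n, hn, h1⟩
    refine ⟨n⁻¹, inv_mem hn, fun x hx => ?_⟩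
    have h2 := h1 _ (mem_cj.1 hx)
    have h3 : x = n * (g⁻¹ * x * g) * n⁻¹ := by rw [h2]; group
    conv_lhs => rw [h3]
    group
  · intro g hg
    refine ⟨g, ?_, fun _ _ => rfl⟩
    apply mem_norm_of_le
    rw [cj_le_iff]
    intro a ha
    have h1 : g * a * g⁻¹ ∈ (S : Subgroup G) := (Subgroup.mem_normalizer_iff.1 hg a).1 (hAS ha)
    exact hcl a ha g h1
  · intro X _ hXS IH
    obtain ⟨a, h1, h3⟩ := domain_fullyNormalized S X
    have hUS : cj a X ≤ (S : Subgroup G) :=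
      (cj_mono (le_inf hXS.le Subgroup.le_normalizer)).trans h1
    refine ⟨a, hUS, h3, fun y hy => ?_⟩
    set U := cj a X with hU
    set B := A ⊓ U with hB
    set M := chainStab U B with hM
    have hBn : ∀ n ∈ Subgroup.normalizer (U : Set G), ∀ b, n * b * n⁻¹ ∈ B ↔ b ∈ B := by
      have key : ∀ n ∈ Subgroup.normalizer (U : Set G), ∀ b ∈ B, n * b * n⁻¹ ∈ B := by
        intro n hn b hb
        have h4 : n * b * n⁻¹ ∈ U := (Subgroup.mem_normalizer_iff.1 hn b).1 hb.2
        exact ⟨hcl b hb.1 n (hUS h4), h4⟩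
      intro n hn b
      refine ⟨fun h => ?_, key n hn b⟩
      have := key n⁻¹ (inv_mem hn) _ h
      have e : n⁻¹ * (n * b * n⁻¹) * n⁻¹⁻¹ = b := by group
      rwa [e] at this
    have hMN : M ≤ Subgroup.normalizer (U : Set G) := fun x hx => hx.1
    have hNM : Subgroup.normalizer (U : Set G) ≤ Subgroup.normalizer (M : Set G) := by
      intro n hn
      apply mem_norm_of_le
      rw [cj_le_iff]
      rintro x ⟨hx1, hx2, hx3⟩
      refine ⟨mul_mem (mul_mem hn hx1) (inv_mem hn), ?_, ?_⟩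
      · intro u hu
        have h4 : n⁻¹ * u * n ∈ U := by
          have := (Subgroup.mem_normalizer_iff.1 (inv_mem hn) u).1 hu
          simpa using this
        have h5 := (hBn n hn _).2 (hx2 _ h4)
        have h6 : n * (x * (n⁻¹ * u * n) * x⁻¹ * (n⁻¹ * u * n)⁻¹) * n⁻¹ =
          n * x * n⁻¹ * u * (n * x * n⁻¹)⁻¹ * u⁻¹ := by group
        rwa [h6] at h5
      · intro b hb
        have h4 : n⁻¹ * b * n ∈ B := by
          have := (hBn n⁻¹ (inv_mem hn) b).2 hb
          simpa using this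
        have h5 := hx3 _ h4
        calc n * x * n⁻¹ * b * (n * x * n⁻¹)⁻¹ = n * (x * (n⁻¹ * b * n) * x⁻¹) * n⁻¹ := by group
          _ = b := by rw [h5]; group
    have hD := h3.inf_normal hMN hNM
    set D := nS (S : Subgroup G) U ⊓ M with hDdef
    have hCM : Subgroup.centralizer (U : Set G) ≤ M := by
      intro x hx
      refine ⟨cent_le_norm' U hx, ?_, ?_⟩
      · intro u hu
        have := Subgroup.mem_centralizer_iff.1 hx u hu
        have e : x * u * x⁻¹ * u⁻¹ = 1 := by rw [← this]; group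
        rw [e]; exact B.one_mem
      · intro b hb
        have := Subgroup.mem_centralizer_iff.1 hx b hb.2
        rw [← this]; group
    have hfac := hD.sup_eq hCM (hMN.trans (norm_le_norm_cent U)) (by
      rintro x ⟨hx1, hx2, hx3⟩ hxo
      rw [Subgroup.mem_centralizer_iff]
      intro u hu
      have hb : x * u * x⁻¹ * u⁻¹ ∈ B := hx2 u hu
      have h4 := chainStab_pow (U := U) (x := x) (u := u) hx3 hb (by group) (orderOf x)
      rw [pow_orderOf_eq_one] at h4
      have h5 : (x * u * x⁻¹ * u⁻¹) ^ orderOf x = 1 := by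
        have : (x * u * x⁻¹ * u⁻¹) ^ orderOf x * u = u := by rw [← h4]; group
        exact mul_eq_right.1 this
      have hSp := S.2
      obtain ⟨m, hm⟩ := hSp ⟨_, hAS hb.1⟩
      have h6 : (x * u * x⁻¹ * u⁻¹) ^ p ^ m = 1 := congrArg Subtype.val hm
      have h7 : x * u * x⁻¹ * u⁻¹ = 1 := by
        rw [← orderOf_eq_one_iff]
        exact Nat.eq_one_of_dvd_coprimes (Nat.Coprime.pow_right m hxo)
          (orderOf_dvd_of_pow_eq_one h5) (orderOf_dvd_of_pow_eq_one h6)
      have h8 : x * u * x⁻¹ = u := by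
        rw [mul_inv_eq_one] at h7; exact h7
      calc u * x = (x * u * x⁻¹) * x := by rw [h8]
        _ = x * u := by group)
    obtain ⟨n, hn, hny⟩ := hD.frattini (hNM hy)
    obtain ⟨c, hc, t, ht, hct⟩ := hfac _ (inv_mem hn)
    have hcy : c⁻¹ * y ∈ Subgroup.normalizer (D : Set G) := by
      have h4 := mul_mem (Subgroup.le_normalizer ht) hny
      have h5 : t * (n * y) = c⁻¹ * y := by
        have : t = c⁻¹ * n⁻¹ := by rw [hct]; group
        rw [this]; group
      rwa [h5] at h4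
    have hcU : c⁻¹ * y ∈ Subgroup.normalizer (U : Set G) :=
      mul_mem (cent_le_norm' U (inv_mem hc)) hy
    have hact : ∀ u ∈ U, c⁻¹ * y * u * (c⁻¹ * y)⁻¹ = y * u * y⁻¹ := by
      intro u hu
      have h9 : y * u * y⁻¹ ∈ U := (Subgroup.mem_normalizer_iff.1 hy u).1 hu
      have h10 := Subgroup.mem_centralizer_iff.1 (inv_mem hc) _ h9
      calc c⁻¹ * y * u * (c⁻¹ * y)⁻¹ = c⁻¹ * (y * u * y⁻¹) * c := by group
        _ = (y * u * y⁻¹) * c⁻¹ * c := by rw [h10]
        _ = y * u * y⁻¹ := by group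
    by_cases hDU : D ≤ U
    · -- then `A ≤ U`
      have hAU : A ≤ U := by
        by_contra hcon
        have hUA : U ≤ Subgroup.normalizer (A : Set G) := hUS.trans hAn
        have hlt : U < U ⊔ A := lt_of_le_of_ne le_sup_left (fun h => hcon (h ▸ le_sup_right))
        have hp' : IsPGroup p ↥(U ⊔ A) := isPGroup_sub S.2 (sup_le hUS hAS)
        have h4 := lt_inf_normalizer hp' hlt
        apply h4.not_ge
        rintro x ⟨hx1, hx2⟩
        obtain ⟨u, hu, b, hb, rfl⟩ := (mem_sup_right_norm hUA).1 hx1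
        have hbN : b ∈ Subgroup.normalizer (U : Set G) := by
          have := mul_mem (inv_mem (Subgroup.le_normalizer hu)) hx2
          rwa [inv_mul_cancel_left] at this
        have hbD : b ∈ D := by
          refine ⟨⟨hAS hb, hbN⟩, hbN, ?_, ?_⟩
          · intro v hv
            have h5 : b * v * b⁻¹ ∈ U := (Subgroup.mem_normalizer_iff.1 hbN v).1 hv
            refine ⟨?_, U.mul_mem h5 (U.inv_mem hv)⟩
            have h6 : v * b⁻¹ * v⁻¹ ∈ A := (Subgroup.mem_normalizer_iff.1 (hUA hv) _).1 (A.inv_mem hb)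
            have h7 := A.mul_mem hb h6
            have h8 : b * (v * b⁻¹ * v⁻¹) = b * v * b⁻¹ * v⁻¹ := by group
            rwa [h8] at h7
          · intro c' hc'
            have h5 : b * c' = c' * b := by
              have := hA.is_comm.comm ⟨b, hb⟩ ⟨c', hc'.1⟩
              exact congrArg Subtype.val this
            rw [h5]; group
        exact U.mul_mem hu (hDU hbD)
      refine ⟨y, ?_, fun _ _ => rfl⟩
      apply mem_norm_of_le
      rw [cj_le_iff]
      intro a' ha'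
      exact hcl a' ha' y (hUS ((Subgroup.mem_normalizer_iff.1 hy a').1 (hAU ha')))
    · have hlt : U < U ⊔ D := lt_of_le_of_ne le_sup_left (fun h => hDU (h ▸ le_sup_right))
      have hcard := card_lt_card_of_lt hlt
      rw [hU, card_cj, ← hU] at hcard
      have hle : U ⊔ D ≤ (S : Subgroup G) := sup_le hUS (inf_le_left.trans inf_le_left)
      have hnn := norm_sup hcU hcy
      obtain ⟨m, hm, h8⟩ := IH (U ⊔ D) hle hcard (c⁻¹ * y) (by
        rw [mem_norm_iff.1 hnn]; exact hle)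
      exact ⟨m, hm, fun u hu => by rw [h8 u (Subgroup.mem_sup_left hu), hact u hu]⟩

end Cfsg.Agent.QdInv
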